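import Cfsg.Agent.Lib.FieldMax.Meet

/-!
Touching lines for a quadratic extension in dimension four give a transvection.
-/

set_option autoImplicit false

namespace CfsgLib.FieldMax

variable {F L V : Type*} [Field F] [Field L] [Algebra F L] [AddCommGroup V] [Module F V] [Module L V]
  [IsScalarTower F L V]

variable {M : Subgroup (Module.End F V)ˣ}

/-- A matrix whose map is in the group. -/
def InM (M : Subgroup (Module.End F V)ˣ) (b : Module.Basis (Fin 4) F V) (A : Matrix (Fin 4) (Fin 4) F) : Prop :=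
  ∃ u ∈ M, (u : Module.End F V) = Matrix.toLinAlgEquiv b A

theorem InM.mul {b : Module.Basis (Fin 4) F V} {A B : Matrix (Fin 4) (Fin 4) F} (hA : InM M b A) (hB : InM M b B) :
    InM M b (A * B) := by
  obtain ⟨u, hu, eu⟩ := hA
  obtain ⟨v, hv, ev⟩ := hB
  exact ⟨u * v, mul_mem hu hv, by rw [Units.val_mul, eu, ev, map_mul]⟩

theorem inM_of_mem {b : Module.Basis (Fin 4) F V} {D : Module.End F V} (h : Mem M D) {A : Matrix (Fin 4) (Fin 4) F}
    (hA : ∀ i, Matrix.toLinAlgEquiv b A (b i) = b i + D (b i)) : InM M b A := by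
  obtain ⟨u, hu, eu⟩ := h
  refine ⟨u, hu, b.ext fun i => ?_⟩
  rw [hA, eu]; rfl

theorem hasTv_of_inM {b : Module.Basis (Fin 4) F V} {A : Matrix (Fin 4) (Fin 4) F} (h : InM M b A)
    (a φ : Fin 4 → F) (hA : A = 1 + Matrix.vecMulVec a φ) (hφ : φ ⬝ᵥ a = 0) (i j : Fin 4) (ha : a i ≠ 0) (hj : φ j ≠ 0) :
    HasTv M := by
  obtain ⟨u, hu, eu⟩ := h
  let z : V := ∑ k, a k • b k
  let ψ : Module.Dual F V := b.constr F φ
  have hz : ψ z = 0 := by
    rw [← hφ]
    simp [z, ψ, map_sum, dotProduct, mul_comm]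
  refine ⟨ψ, z, hz, fun e => hj ?_, fun e => ha ?_, u, hu, ?_⟩
  · have := LinearMap.congr_fun e (b j)
    simpa [ψ] using this
  · exact Fintype.linearIndependent_iff.1 b.linearIndependent a e i
  · rw [eu, hA, map_add, map_one]
    congr 1
    refine b.ext fun k => ?_
    rw [Matrix.toLinAlgEquiv_self]
    simp [z, ψ, Matrix.vecMulVec_apply, Finset.smul_sum, smul_smul, mul_comm]

namespace Ext

variable [Fintype F] [FiniteDimensional F L] [FiniteDimensional L V] (hM : Ext L M)

include hM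

/-- The case of a quadratic extension in dimension four. -/
theorem hasTv_small (hr : Module.finrank F L = 2) (hm : Module.finrank L V = 2) {g : (Module.End F V)ˣ} (hg : g ∈ M)
    {a : V} (ha : a ≠ 0) (hne : (line F L a).map (g : Module.End F V) ≠ line F L a)
    (hk : Module.finrank F (line F L a ⊓ (line F L a).map (g : Module.End F V) : Submodule F V) + 1 = 2) :
    HasTv M := by
  classical
  haveI : FiniteDimensional F V := Module.Finite.trans L V
  set A := line F L a with hA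
  set B := A.map (g : Module.End F V) with hB
  obtain ⟨w, hwB, hwZ, hBw⟩ := exists_between (inf_le_right : A ⊓ B ≤ B) (by rw [finrank_map_line g ha, hr]; exact hk)
  obtain ⟨z, hzZ, hz0⟩ := (A ⊓ B).exists_mem_ne_zero_of_ne_bot fun e => by rw [e, finrank_bot] at hk; omega
  have hzA : A = line F L z := (line_eq_of_mem hzZ.1 hz0).symm
  have hZ : A ⊓ B = F ∙ z := (Submodule.eq_of_le_of_finrank_eq ((Submodule.span_singleton_le_iff_mem _ _).2 hzZ)
    (by rw [finrank_span_singleton hz0]; omega)).symm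
  have hwA : w ∉ L ∙ z := fun h => hwZ ⟨hzA ▸ h, hwB⟩
  obtain ⟨μz, hμzz, hμzw⟩ := exists_form_eq hwA 1
  have hzw : z ∉ L ∙ w := fun h => by
    obtain ⟨c, hc⟩ := Submodule.mem_span_singleton.1 h
    have hc0 : c ≠ 0 := fun e => hz0 (by rw [← hc, e, zero_smul])
    exact hwA (Submodule.mem_span_singleton.2 ⟨c⁻¹, by rw [← hc, inv_smul_smul₀ hc0]⟩)
  obtain ⟨μw, hμww, hμwz⟩ := exists_form_eq hzw 1
  have hμzz' : μz z = 0 := hμzz z (Submodule.mem_span_singleton_self z)
  have hμww' : μw w = 0 := hμww w (Submodule.mem_span_singleton_self w)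
  obtain ⟨ω, hω, hωq⟩ : ∃ ω : L, ω ∉ Set.range (algebraMap F L) ∧ (Fintype.card F = 2 → ω * ω = ω + 1) := by
    obtain ⟨ω, hω⟩ : ∃ ω : L, ω ∉ Set.range (algebraMap F L) := by
      by_contra hcon
      push Not at hcon
      have hsur : Function.Surjective (Algebra.linearMap F L) := hcon
      have hd := LinearMap.finrank_range_le (Algebra.linearMap F L)
      rw [LinearMap.range_eq_top.2 hsur, finrank_top, Module.finrank_self, hr] at hd
      omega
    refine ⟨ω, hω, fun h2 => ?_⟩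
    haveI : Finite L := Module.finite_of_finite F
    letI := Fintype.ofFinite L
    have h4 : Fintype.card L = 4 := by
      rw [← Nat.card_eq_fintype_card, Module.natCard_eq_pow_finrank (K := F) (V := L), Nat.card_eq_fintype_card, h2, hr]
      norm_num
    have hω0 : ω ≠ 0 := fun e => hω ⟨0, by rw [e, map_zero]⟩
    have h3 := FiniteField.pow_card_sub_one_eq_one ω hω0
    rw [h4] at h3
    have h5 : (ω - 1) * (ω ^ 2 + ω + 1) = 0 := by
      norm_num at h3
      linear_combination h3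
    have h6 := (mul_eq_zero.1 h5).resolve_left (sub_ne_zero.2 fun e => hω ⟨1, by rw [e, map_one]⟩)
    obtain ⟨p, hp⟩ := CharP.exists L
    haveI := hp
    have hp2 : p = 2 := by
      obtain ⟨n, hn, hc⟩ := FiniteField.card L p
      rw [h4] at hc
      have : p ∣ 2 ^ 2 := by
        show p ∣ 4
        rw [hc]; exact dvd_pow_self p n.ne_zero
      exact (Nat.prime_dvd_prime_iff_eq hn Nat.prime_two).1 (hn.dvd_of_dvd_pow this)
    subst hp2
    have e2 : (2 : L) = 0 := by exact_mod_cast CharP.cast_eq_zero L 2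
    linear_combination h6 - (ω + 1) * e2
  -- the basis
  have hsplit : ∀ x : L, ∃ c d : F, x = c • (1 : L) + d • ω := by
    have hli : LinearIndependent F ![(1 : L), ω] := LinearIndependent.pair_iff.2 fun c d h => by
      by_cases hd : d = 0
      · simpa [hd] using h
      refine absurd ⟨-(d⁻¹ * c), ?_⟩ hω
      rw [Algebra.algebraMap_eq_smul_one, neg_smul, mul_smul, eq_neg_of_add_eq_zero_left h, smul_neg, neg_neg,
        inv_smul_smul₀ hd]
    have htop := hli.span_eq_top_of_card_eq_finrank' (by simp [hr])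
    intro x
    have hx : x ∈ Submodule.span F (Set.range ![(1 : L), ω]) := htop ▸ Submodule.mem_top
    obtain ⟨c, hc⟩ := (Submodule.mem_span_range_iff_exists_fun F).1 hx
    exact ⟨c 0, c 1, by simpa [Fin.sum_univ_two] using hc.symm⟩
  let v : Fin 4 → V := ![z, w, ω • z, ω • w]
  have hspanV : ∀ y : V, y = μw y • z + μz y • w := by
    have htop : Submodule.span L (Set.range ![z, w]) = ⊤ := by
      refine LinearIndependent.span_eq_top_of_card_eq_finrank' (LinearIndependent.pair_iff.2 fun c d h => ?_) (by simp [hm])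
      have h1 := congrArg μw h
      have h2 := congrArg μz h
      simp [hμww', hμwz, hμzz', hμzw] at h1 h2
      exact ⟨h1, h2⟩
    intro y
    have hy : y ∈ Submodule.span L (Set.range ![z, w]) := htop ▸ Submodule.mem_top
    obtain ⟨c, rfl⟩ := (Submodule.mem_span_range_iff_exists_fun L).1 hy
    simp [Fin.sum_univ_two, hμww', hμwz, hμzz', hμzw]
  have hvtop : (⊤ : Submodule F V) ≤ Submodule.span F (Set.range v) := by
    intro y _
    obtain ⟨c, d, hcd⟩ := hsplit (μw y)
    obtain ⟨c', d', hcd'⟩ := hsplit (μz y)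
    rw [hspanV y, hcd, hcd']
    refine (Submodule.mem_span_range_iff_exists_fun F).2 ⟨![c, c', d, d'], ?_⟩
    simp [v, Fin.sum_univ_four, add_smul, smul_assoc]
    abel
  have hdimV : Fintype.card (Fin 4) = Module.finrank F V := by
    rw [← Module.finrank_mul_finrank F L V, hr, hm, Fintype.card_fin]
  let b : Module.Basis (Fin 4) F V := basisOfTopLeSpanOfCardEqFinrank v hvtop hdimV
  have hb : ∀ i, b i = v i := fun i => by simp [b]
  -- the root elements of the second line
  set gi := ((g⁻¹ : (Module.End F V)ˣ) : Module.End F V) with hgi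
  have hωz : gi (ω • z) ∉ L ∙ a := fun h => by
    have h1 := Submodule.mem_map_of_mem (f := (g : Module.End F V)) (show gi (ω • z) ∈ A from h)
    rw [hgi, apply_inv_apply] at h1
    have h2 : ω • z ∈ F ∙ z := hZ ▸ ⟨hzA ▸ smul_mem_line z ω, h1⟩
    obtain ⟨c, hc⟩ := Submodule.mem_span_singleton.1 h2
    refine hω ⟨c, ?_⟩
    rw [Algebra.algebraMap_eq_smul_one]
    exact smul_left_injective L hz0 (by simpa using hc)
  obtain ⟨w₀, hw₀, hgw₀⟩ := hwB
  obtain ⟨s, hs⟩ := mem_line.1 hw₀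
  obtain ⟨μ₂, hμ₂, hμ₂w⟩ := exists_form_eq hωz s
  have hμ₂a : μ₂ a = 0 := hμ₂ a (Submodule.mem_span_singleton_self a)
  set C : Module.End F V := (g : Module.End F V) * lin1 μ₂ a * gi with hC
  have hCv : ∀ v, C v = (g : Module.End F V) (μ₂ (gi v) • a) := lin1_conj_apply g μ₂ a
  have hCB0 : ∀ v ∈ B, C v = 0 := by
    rintro _ ⟨x, hx, rfl⟩
    obtain ⟨t, rfl⟩ := mem_line.1 hx
    rw [hCv, hgi, inv_apply_apply]; simp [hμ₂a]
  have hC2 : C (ω • z) = w := by rw [hCv, hμ₂w, hs, hgw₀]
  obtain ⟨x, y, hC3⟩ : ∃ x y : F, C (ω • w) = x • z + y • w := by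
    have hm' : C (ω • w) ∈ B := by rw [hCv]; exact Submodule.mem_map_of_mem (smul_mem_line a _)
    rw [hBw, Submodule.mem_sup, hZ] at hm'
    obtain ⟨p, hp, q, hq, e⟩ := hm'
    obtain ⟨c, rfl⟩ := Submodule.mem_span_singleton.1 hp
    obtain ⟨d, rfl⟩ := Submodule.mem_span_singleton.1 hq
    exact ⟨c, d, e.symm⟩
  have hwB' : w ∈ B := ⟨w₀, hw₀, hgw₀⟩
  have hCmem : ∀ m : F, InM M b !![1, 0, 0, m * x; 0, 1, m, m * y; 0, 0, 1, 0; 0, 0, 0, 1] := by
    intro m
    refine inM_of_mem ((hM.tv (algebraMap F L m • μ₂) a (by simp [hμ₂a])).conj hg) fun i => ?_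
    have hsc : ∀ v, ((g : Module.End F V) * lin1 (algebraMap F L m • μ₂) a * gi : Module.End F V) v = m • C v := fun v => by
      rw [lin1_conj_apply, hCv, LinearMap.smul_apply, smul_eq_mul, mul_smul, algebraMap_smul, map_smul]
    rw [← hgi, Matrix.toLinAlgEquiv_self, hsc]
    fin_cases i <;> simp [hb, v, Fin.sum_univ_four, hCB0 z hzZ.2, hCB0 w hwB', hC2, hC3, smul_add, smul_smul]
    · abel
    · abel
  -- transvections over the extension field
  have hT : ∀ m : F, InM M b !![1, m, 0, 0; 0, 1, 0, 0; 0, 0, 1, m; 0, 0, 0, 1] := fun m => by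
    refine inM_of_mem (hM.tv (algebraMap F L m • μz) z (by simp [hμzz'])) fun i => ?_
    rw [Matrix.toLinAlgEquiv_self]
    fin_cases i <;> simp [hb, v, Fin.sum_univ_four, hμzz', hμzw, mul_smul, algebraMap_smul]
    · abel
    · rw [smul_comm ω m z]; abel
  by_cases hq : Fintype.card F = 2
  swap
  · obtain ⟨m, hm0, hm1⟩ : ∃ m : F, m ≠ 0 ∧ m ≠ 1 := by
      by_contra hcon
      push Not at hcon
      have hsub : (Finset.univ : Finset F) ⊆ {0, 1} := fun s _ => by
        by_cases h0' : s = 0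
        · simp [h0']
        · simp [hcon s h0']
      have h5 := (Finset.card_le_card hsub).trans Finset.card_le_two
      have : 2 ≤ Fintype.card F := Fintype.one_lt_card
      exact hq (le_antisymm (by simpa using h5) this)
    have h1 := (((hT 1).mul (hCmem m)).mul (hT (-1))).mul (hCmem (-m))
    have h2 := (((hT m).mul (hCmem 1)).mul (hT (-m))).mul (hCmem (-1))
    -- the difference of two differences
    have h2' := (((hT m).mul (hCmem (-1))).mul (hT (-m))).mul (hCmem 1)
    refine hasTv_of_inM (h1.mul h2') ![m * m - m, 0, 0, 0] ![0, 0, 0, 1] ?_ (by simp [Fin.sum_univ_four, dotProduct])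
      0 3 (by
        show m * m - m ≠ 0
        rw [show m * m - m = m * (m - 1) by ring]
        exact mul_ne_zero hm0 (sub_ne_zero.2 hm1)) (by simp)
    ext i j
    fin_cases i <;> fin_cases j <;> simp [Matrix.mul_apply, Fin.sum_univ_four, Matrix.vecMulVec_apply] <;> ring
  -- two elements
  obtain ⟨p, hp⟩ := CharP.exists F
  haveI := hp
  have hp2 : p = 2 := by
    obtain ⟨n, hn, hc⟩ := FiniteField.card F p
    rw [hq] at hc
    exact (Nat.prime_dvd_prime_iff_eq hn Nat.prime_two).1 (by rw [hc]; exact dvd_pow_self p n.ne_zero)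
  subst hp2
  let φ : ZMod 2 →+* F := ZMod.castHom (dvd_refl 2) F
  have hφs : Function.Surjective φ := by
    refine (((Fintype.bijective_iff_injective_and_card φ).2 ⟨φ.injective, ?_⟩)).2
    rw [ZMod.card, hq]
  have e2 : (2 : F) = 0 := by exact_mod_cast CharP.cast_eq_zero F 2
  let G (A : Matrix (Fin 4) (Fin 4) (ZMod 2)) : Prop := InM M b (φ.mapMatrix A)
  have Gmul : ∀ {A B}, G A → G B → G (A * B) := fun {A B} hA hB => by
    show InM M b _
    rw [map_mul]; exact hA.mul hB
  obtain ⟨x, rfl⟩ := hφs x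
  obtain ⟨y, rfl⟩ := hφs y
  have hu : G !![1, 0, 0, x; 0, 1, 1, y; 0, 0, 1, 0; 0, 0, 0, 1] := by
    show InM M b _
    convert hCmem 1 using 1
    ext i j; fin_cases i <;> fin_cases j <;> simp
  have ht : G !![1, 1, 0, 0; 0, 1, 0, 0; 0, 0, 1, 1; 0, 0, 0, 1] := by
    show InM M b _
    convert hT 1 using 1
    ext i j; fin_cases i <;> fin_cases j <;> simp
  have hω2 := hωq hq
  have hωn : Algebra.norm F ω = 1 := by
    have hω0 : ω ≠ 0 := fun e => hω ⟨0, by rw [e, map_zero]⟩
    have h0 : Algebra.norm F ω ≠ 0 := Algebra.norm_ne_zero_iff.2 hω0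
    obtain ⟨c, hc⟩ := hφs (Algebra.norm F ω)
    rw [← hc] at h0 ⊢
    fin_cases c
    · exact absurd (map_zero φ) h0
    · exact map_one φ
  have hωω : ∀ v : V, ω • ω • v = v + ω • v := fun v => by rw [smul_smul, hω2, add_smul, one_smul, add_comm]
  have hchar : ∀ v : V, v + v = 0 := fun v => by rw [← two_smul F v, e2, zero_smul]
  have hlift : ∀ {D : Module.End F V}, Mem M D → ∀ A : Matrix (Fin 4) (Fin 4) (ZMod 2),
      (∀ i, ∑ j, φ (A j i) • b j = b i + D (b i)) → G A := fun h A hA => inM_of_mem h fun i => by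
    rw [Matrix.toLinAlgEquiv_self]; exact hA i
  have hs' : G !![1, 0, 0, 0; 1, 1, 0, 0; 0, 0, 1, 0; 0, 0, 1, 1] := by
    refine hlift (hM.tv μw w hμww') _ fun i => ?_
    fin_cases i <;> simp [hb, v, Fin.sum_univ_four, hμww', hμwz]
  have hdz : G !![0, 0, 1, 0; 0, 1, 0, 0; 1, 0, 1, 0; 0, 0, 0, 1] := by
    refine hlift (hM.tor μw z ω hμwz hωn) _ fun i => ?_
    fin_cases i <;> simp [hb, v, Fin.sum_univ_four, hμww', hμwz, sub_smul, smul_sub, hωω]
    abel
  have hdw : G !![1, 0, 0, 0; 0, 0, 0, 1; 0, 0, 1, 0; 0, 1, 0, 1] := by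
    refine hlift (hM.tor μz w ω hμzw hωn) _ fun i => ?_
    fin_cases i <;> simp [hb, v, Fin.sum_univ_four, hμzz', hμzw, sub_smul, smul_sub, hωω]
    abel
  have huo : G !![1, 0, 0, 1; 0, 1, 0, 0; 0, 1, 1, 1; 0, 0, 0, 1] := by
    refine hlift (hM.tv μz (ω • z) (by simp [hμzz'])) _ fun i => ?_
    fin_cases i <;> simp [hb, v, Fin.sum_univ_four, hμzz', hμzw, hωω]
    all_goals abel
  have key : ∀ (A : Matrix (Fin 4) (Fin 4) (ZMod 2)) (c ψ : Fin 4 → ZMod 2), G A → A = 1 + Matrix.vecMulVec c ψ →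
      ψ ⬝ᵥ c = 0 → ∀ i j, c i ≠ 0 → ψ j ≠ 0 → HasTv M := fun A c ψ hA he h0 i j hi hj => by
    refine hasTv_of_inM hA (φ ∘ c) (φ ∘ ψ) ?_ ?_ i j ((map_ne_zero φ).2 hi) ((map_ne_zero φ).2 hj)
    · rw [he, map_add, map_one]
      ext i' j'; simp [Matrix.vecMulVec_apply]
    · rw [← RingHom.map_dotProduct, h0, map_zero]
  have h01 : ∀ t : ZMod 2, t = 0 ∨ t = 1 := by decide
  rcases h01 x with rfl | rfl
  · rcases h01 y with rfl | rfl
    · exact key _ ![0, 1, 0, 0] ![0, 0, 1, 0] hu (by decide) (by decide) 1 2 (by decide) (by decide)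
    · exact key _ ![0, 1, 0, 0] ![0, 0, 1, 1] hu (by decide) (by decide) 1 2 (by decide) (by decide)
  rcases h01 y with rfl | rfl
  · exact key _ ![1, 1, 0, 0] ![1, 1, 1, 1]
      (Gmul (Gmul (Gmul (Gmul (Gmul hdz huo) hu) hdz) huo) hu) (by decide) (by decide) 0 0 (by decide) (by decide)
  · exact key _ ![1, 0, 0, 1] ![1, 1, 1, 1]
      (Gmul (Gmul (Gmul (Gmul (Gmul (Gmul (Gmul ht hdw) hu) huo) hs') hdw) hu) hdz)
      (by decide) (by decide) 0 0 (by decide) (by decide)

end Ext

end CfsgLib.FieldMax
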