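import Cfsg.Agent.Lib.FieldMax.Main
import Cfsg.Agent.Lib.FieldMax.Small

/-!
Maximality of extension-field normalisers in the linear groups.
-/

set_option autoImplicit false

namespace CfsgLib.FieldMax

open Cfsg Cfsg.Geo
open scoped Matrix

universe u

variable {F : Type u} [Field F] [Fintype F] {ι : Type} [Fintype ι] [DecidableEq ι]

theorem not_specialLinear_le {r : ℕ} {K : Subalgebra F (Matrix ι ι F)} (hK : IsFieldSubalgebra r K) (hr : 2 ≤ r)
    (hlt : r < Fintype.card ι) : ¬ specialLinear ι F ≤ subalgebraNormalizer K := by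
  intro h
  haveI : Nonempty ι := Fintype.card_pos_iff.1 (by omega)
  obtain ⟨T, hT, -, hTn⟩ := CfsgLib.Maximal.exists_centralizer_not_normalizer K hK ⊥
    CfsgLib.Maximal.isFieldSubalgebra_bot (bot_lt_iff_ne_bot.2 fun e => by
      have := hK.finrank_eq
      rw [e, Subalgebra.finrank_bot] at this
      omega) hlt
  exact hTn (h hT)

/-- Above the special part of an extension-field normaliser there is only the special linear group. -/
theorem specialLinear_le_of_gt {r : ℕ} {K : Subalgebra F (Matrix ι ι F)} (hK : IsFieldSubalgebra r K) (hr : r.Prime)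
    (hlt : r < Fintype.card ι) {M : Subgroup (GL ι F)} (hle : subalgebraNormalizer K ⊓ specialLinear ι F ≤ M)
    {g : GL ι F} (hg : g ∈ M) (hgn : g ∉ subalgebraNormalizer K) : specialLinear ι F ≤ M :=
  ext_of_field hK hr hlt (fun g h1 h2 => hle ⟨h2, h1⟩) hg hgn
    fun _ _ _ _ _ _ _ _ e1 e2 hE _ hu _ ha hne hk _ => hE.hasTv_small e1 e2 hu ha hne hk

/-- The special part is maximal in the special linear group. -/
theorem field_maximal {r : ℕ} {K : Subalgebra F (Matrix ι ι F)} (hK : IsFieldSubalgebra r K) (hr : r.Prime)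
    (hlt : r < Fintype.card ι) : IsMaximalIn (specialLinear ι F) (subalgebraNormalizer K ⊓ specialLinear ι F) := by
  refine ⟨lt_of_le_of_ne inf_le_right fun e => not_specialLinear_le hK hr.two_le hlt (inf_eq_right.1 e),
    fun M hM hMS => ?_⟩
  by_cases h : M ≤ subalgebraNormalizer K
  · exact Or.inl (le_antisymm (le_inf h hMS) hM)
  · obtain ⟨g, hg, hgn⟩ := SetLike.not_le_iff_exists.1 h
    exact Or.inr (le_antisymm hMS (specialLinear_le_of_gt hK hr hlt hM hg hgn))

/-- Every determinant occurs in the normaliser. -/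
theorem exists_det_eq {r : ℕ} {K : Subalgebra F (Matrix ι ι F)} (hK : IsFieldSubalgebra r K) (hr : r.Prime)
    (hlt : r < Fintype.card ι) {d : F} (hd : d ≠ 0) :
    ∃ h ∈ subalgebraNormalizer K, (h : Matrix ι ι F).det = d := by
  classical
  haveI : Nonempty ι := Fintype.card_pos_iff.1 (by omega)
  obtain ⟨L, iL, aL, ρ, hfin, hρ⟩ := exists_field_model hK
  letI : Module L (ι → F) := Module.compHom (ι → F)
    ((Matrix.toLinAlgEquiv' (R := F) (n := ι)).toAlgHom.toRingHom.comp ρ.toRingHom)
  have hsmul : ∀ (x : L) (v : ι → F), x • v = ρ x *ᵥ v := fun _ _ => rfl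
  haveI : IsScalarTower F L (ι → F) := ⟨fun a x v => by
    rw [hsmul, hsmul, map_smul]
    exact Matrix.smul_mulVec a (ρ x) v⟩
  haveI : FiniteDimensional F L := Module.finite_of_finrank_pos (by rw [hfin]; exact hr.pos)
  haveI : FiniteDimensional L (ι → F) := Module.Finite.of_restrictScalars_finite F L (ι → F)
  haveI : Finite L := Module.finite_of_finite F
  obtain ⟨t, ht⟩ := FiniteField.norm_surjective F L d
  obtain ⟨i⟩ := (inferInstance : Nonempty ι)
  have hv : (Pi.single i 1 : ι → F) ∉ (⊥ : Submodule L (ι → F)) := fun h => by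
    simpa using congrFun ((Submodule.mem_bot L).1 h) i
  obtain ⟨μ, -, hμ⟩ := exists_form_eq hv 1
  let f := LinearMap.transvection μ ((t - 1) • (Pi.single i 1 : ι → F))
  have hdet : (LinearMap.toMatrix' (f.restrictScalars F)).det = d := by
    rw [LinearMap.det_toMatrix', LinearMap.det_restrictScalars, LinearMap.transvection.det, map_smul, hμ, smul_eq_mul,
      mul_one, add_sub_cancel, ht]
  let u : GL ι F := Matrix.GeneralLinearGroup.mkOfDetNeZero (LinearMap.toMatrix' (f.restrictScalars F))
    (by rw [hdet]; exact hd)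
  have hu : ∀ v, (u : Matrix ι ι F) *ᵥ v = f v := fun v => LinearMap.toMatrix'_mulVec _ _
  refine ⟨u, mem_normalizer_of_commute fun k hk => ?_, hdet⟩
  obtain ⟨x, rfl⟩ : ∃ x, ρ x = k := by rw [← hρ] at hk; exact hk
  refine Matrix.ext_of_mulVec_single fun j => ?_
  rw [← Matrix.mulVec_mulVec, ← Matrix.mulVec_mulVec, hu, hu]
  exact f.map_smul x _

/-- The normaliser is maximal in the general linear group. -/
theorem field_coatom {r : ℕ} {K : Subalgebra F (Matrix ι ι F)} (hK : IsFieldSubalgebra r K) (hr : r.Prime)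
    (hlt : r < Fintype.card ι) : IsCoatom (subalgebraNormalizer K) := by
  refine ⟨fun e => not_specialLinear_le hK hr.two_le hlt (e ▸ le_top), fun M hM => eq_top_iff.2 fun g _ => ?_⟩
  obtain ⟨g₀, hg₀, hgn⟩ := SetLike.exists_of_lt hM
  have hSL := specialLinear_le_of_gt hK hr hlt (inf_le_left.trans hM.le) hg₀ hgn
  obtain ⟨h, hh, hd⟩ := exists_det_eq hK hr hlt (Matrix.GeneralLinearGroup.det_ne_zero g)
  have hs : g * h⁻¹ ∈ specialLinear ι F := by
    show Matrix.GeneralLinearGroup.det (g * h⁻¹) = 1
    rw [map_mul, map_inv, mul_inv_eq_one]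
    exact Units.ext hd.symm
  simpa using M.mul_mem (hSL hs) (hM.le hh)

end CfsgLib.FieldMax
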