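import Cfsg.Agent.Lib.FieldMax.Transv

/-!
The orbit of the lines over the extension field: in a group properly above the normaliser two of them meet in
a hyperplane of each.
-/

set_option autoImplicit false

namespace CfsgLib.FieldMax

variable {F L V : Type*} [Field F] [Field L] [Algebra F L] [AddCommGroup V] [Module F V] [Module L V]
  [IsScalarTower F L V]

variable (F L) in
/-- A line over the extension field, as a space over the base field. -/
def line (a : V) : Submodule F V := (L ∙ a).restrictScalars F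

theorem mem_line {a v : V} : v ∈ line F L a ↔ ∃ s : L, s • a = v := Submodule.mem_span_singleton

theorem smul_mem_line (a : V) (s : L) : s • a ∈ line F L a := mem_line.2 ⟨s, rfl⟩

theorem self_mem_line (a : V) : a ∈ line F L a := mem_line.2 ⟨1, one_smul _ _⟩

theorem line_eq_of_mem {a v : V} (h : v ∈ line F L a) (hv : v ≠ 0) : line F L v = line F L a := by
  obtain ⟨s, rfl⟩ := mem_line.1 h
  have hs : s ≠ 0 := fun e => hv (by rw [e, zero_smul])
  rw [line, line, Submodule.span_singleton_smul_eq (IsUnit.mk0 s hs)]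

theorem finrank_line {a : V} (ha : a ≠ 0) : Module.finrank F (line F L a) = Module.finrank F L := by
  have e : LinearMap.range ((LinearMap.toSpanSingleton L V a).restrictScalars F) = line F L a := by
    ext v; simp [mem_line]
  rw [← e, LinearMap.finrank_range_of_inj]
  exact smul_left_injective L ha

variable {M : Subgroup (Module.End F V)ˣ}

theorem map_unit_inj (u : (Module.End F V)ˣ) : Function.Injective (u : Module.End F V) := fun x y h => by
  have := congrArg ((u⁻¹ : (Module.End F V)ˣ) : Module.End F V) h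
  rwa [← Module.End.mul_apply, ← Module.End.mul_apply, Units.inv_mul, Module.End.one_apply,
    Module.End.one_apply] at this

theorem inv_apply_apply (u : (Module.End F V)ˣ) (x : V) :
    ((u⁻¹ : (Module.End F V)ˣ) : Module.End F V) ((u : Module.End F V) x) = x := by
  rw [← Module.End.mul_apply, Units.inv_mul, Module.End.one_apply]

theorem apply_inv_apply (u : (Module.End F V)ˣ) (x : V) :
    (u : Module.End F V) (((u⁻¹ : (Module.End F V)ˣ) : Module.End F V) x) = x := by
  rw [← Module.End.mul_apply, Units.mul_inv, Module.End.one_apply]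

theorem finrank_map_line [FiniteDimensional F V] (u : (Module.End F V)ˣ) {a : V} (ha : a ≠ 0) :
    Module.finrank F ((line F L a).map (u : Module.End F V)) = Module.finrank F L := by
  rw [← (Submodule.equivMapOfInjective _ (map_unit_inj u) _).finrank_eq, finrank_line ha]

theorem exists_not_mem_span [FiniteDimensional L V] (hdim : 2 ≤ Module.finrank L V) (a : V) : ∃ b, b ∉ L ∙ a := by
  by_contra hcon
  push Not at hcon
  have h := finrank_span_le_card (R := L) ({a} : Set V)
  rw [show L ∙ a = ⊤ from eq_top_iff.2 fun v _ => hcon v, finrank_top] at h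
  simp at h
  omega

/-- A transitive group outside the normaliser moves some line to a non-line meeting a line. -/
theorem tilted_of_move [FiniteDimensional F L] [FiniteDimensional L V] (hdim : 2 ≤ Module.finrank L V)
    (hmove : ∀ {a b : V}, a ≠ 0 → b ≠ 0 → ∃ u ∈ M, (u : Module.End F V) a = b ∧
      ∀ (s : L) (v : V), (u : Module.End F V) (s • v) = s • (u : Module.End F V) v)
    {u : (Module.End F V)ˣ} (hu : u ∈ M)
    (hn : ¬ ∀ s : L, ∃ t : L, ∀ v : V, (u : Module.End F V) (s • v) = t • (u : Module.End F V) v) :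
    ∃ g ∈ M, ∃ a : V, a ≠ 0 ∧ 1 ≤ Module.finrank F (line F L a ⊓ (line F L a).map (g : Module.End F V) : Submodule F V) ∧
      (line F L a).map (g : Module.End F V) ≠ line F L a := by
  haveI : FiniteDimensional F V := Module.Finite.trans L V
  obtain ⟨a₀, ha₀, hline⟩ : ∃ a : V, a ≠ 0 ∧ (line F L a).map (u : Module.End F V) ≠ line F L ((u : Module.End F V) a) := by
    by_contra hcon
    push Not at hcon
    refine hn fun s => ?_
    have hex : ∀ v : V, ∃ t : L, t • (u : Module.End F V) v = (u : Module.End F V) (s • v) := fun v => by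
      rcases eq_or_ne v 0 with rfl | hv
      · exact ⟨0, by simp⟩
      exact mem_line.1 (hcon v hv ▸ Submodule.mem_map_of_mem (smul_mem_line v s))
    choose t ht using hex
    have hback : ∀ {v w : V}, v ≠ 0 → (u : Module.End F V) w ∈ line F L ((u : Module.End F V) v) → w ∈ line F L v := by
      intro v w hv hw
      rw [← hcon v hv] at hw
      obtain ⟨w', hw', e⟩ := hw
      rwa [← map_unit_inj u e]
    have hindep : ∀ {v w : V}, v ≠ 0 → w ∉ line F L v → t v = t w := by
      intro v w hv hw
      have h1 := ht (v + w)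
      rw [map_add, smul_add, smul_add, map_add, ← ht v, ← ht w] at h1
      have h2 : (t (v + w) - t v) • (u : Module.End F V) v = (t w - t (v + w)) • (u : Module.End F V) w := by
        linear_combination (norm := module) h1
      by_contra hne
      by_cases h3 : t w - t (v + w) = 0
      · rw [h3, zero_smul, smul_eq_zero, sub_eq_zero] at h2
        rcases h2 with h2 | h2
        · exact hne (h2.symm.trans (sub_eq_zero.1 h3).symm)
        · exact hv (map_unit_inj u (h2.trans (map_zero _).symm))
      refine hw (hback hv (mem_line.2 ⟨(t w - t (v + w))⁻¹ * (t (v + w) - t v), ?_⟩))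
      rw [mul_smul, h2, inv_smul_smul₀ h3]
    obtain ⟨v₀, hv₀⟩ : ∃ v : V, v ≠ 0 := by
      obtain ⟨b, hb⟩ := exists_not_mem_span hdim (0 : V)
      exact ⟨b, fun e => hb (by rw [e]; exact zero_mem _)⟩
    refine ⟨t v₀, fun v => ?_⟩
    rcases eq_or_ne v 0 with rfl | hv
    · simp
    by_cases h : v ∈ line F L v₀
    · obtain ⟨w, hw⟩ := exists_not_mem_span hdim v₀
      have h' : w ∉ line F L v := fun hm => hw (by rwa [line_eq_of_mem h hv] at hm)
      rw [← ht v, hindep hv h', ← hindep hv₀ hw]
    · rw [← ht v, hindep hv₀ h]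
  set a := (u : Module.End F V) a₀ with hadef
  have ha : a ≠ 0 := fun e => ha₀ (map_unit_inj u (e.trans (map_zero _).symm))
  obtain ⟨w, hw, hwa, hwl⟩ := hmove ha ha₀
  have hmap : (line F L a).map ((u * w : (Module.End F V)ˣ) : Module.End F V) = (line F L a₀).map (u : Module.End F V) := by
    ext x
    simp only [Submodule.mem_map, mem_line]
    constructor
    · rintro ⟨_, ⟨s, rfl⟩, rfl⟩
      exact ⟨_, ⟨s, rfl⟩, by simp [Module.End.mul_apply, hwl, hwa]⟩
    · rintro ⟨_, ⟨s, rfl⟩, rfl⟩
      exact ⟨_, ⟨s, rfl⟩, by simp [Module.End.mul_apply, hwl, hwa]⟩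
  refine ⟨u * w, mul_mem hu hw, a, ha, ?_, by rw [hmap]; exact hline⟩
  rw [hmap]
  have hmem : a ∈ line F L a ⊓ (line F L a₀).map (u : Module.End F V) :=
    ⟨self_mem_line a, Submodule.mem_map_of_mem (self_mem_line a₀)⟩
  exact Submodule.one_le_finrank_iff.2 fun e => ha ((Submodule.mem_bot F).1 (e ▸ hmem))

namespace Ext

variable [Fintype F] [FiniteDimensional F L] [FiniteDimensional L V] (hM : Ext L M)

include hM

/-- Outside the normaliser some line goes to a non-line. -/
theorem exists_tilted {u : (Module.End F V)ˣ} (hu : u ∈ M)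
    (hn : ¬ ∀ s : L, ∃ t : L, ∀ v : V, (u : Module.End F V) (s • v) = t • (u : Module.End F V) v) :
    ∃ g ∈ M, ∃ a : V, a ≠ 0 ∧ 1 ≤ Module.finrank F (line F L a ⊓ (line F L a).map (g : Module.End F V) : Submodule F V) ∧
      (line F L a).map (g : Module.End F V) ≠ line F L a :=
  tilted_of_move hM.dim (fun ha hb => hM.exists_move ha hb) hu hn

/-- The intersection can be enlarged. -/
theorem exists_bigger {g : (Module.End F V)ˣ} (hg : g ∈ M) {a : V} (ha : a ≠ 0) {k : ℕ}
    (hk : Module.finrank F (line F L a ⊓ (line F L a).map (g : Module.End F V) : Submodule F V) = k)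
    (hk1 : 1 ≤ k) (hk2 : k + 2 ≤ Module.finrank F L) :
    ∃ g' ∈ M, k + 1 ≤ Module.finrank F (line F L a ⊓ (line F L a).map (g' : Module.End F V) : Submodule F V) ∧
      (line F L a).map (g' : Module.End F V) ≠ line F L a := by
  haveI : FiniteDimensional F V := Module.Finite.trans L V
  set A := line F L a with hA
  set B := A.map (g : Module.End F V) with hB
  set Z := A ⊓ B with hZ
  have hBr : Module.finrank F B = Module.finrank F L := finrank_map_line g ha
  obtain ⟨y₀, hy₀, hy₀Z⟩ : ∃ y ∈ B, y ∉ Z := by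
    by_contra hcon
    push Not at hcon
    have := Submodule.finrank_mono (show B ≤ Z from hcon)
    omega
  have hy₀A : y₀ ∉ L ∙ a := fun h => hy₀Z ⟨h, hy₀⟩
  obtain ⟨μ₀, hμ₀, hμ₀y⟩ := exists_form_eq hy₀A 1
  have hμ₀a : μ₀ a = 0 := hμ₀ a (Submodule.mem_span_singleton_self a)
  let S : Submodule F L := Z.comap ((LinearMap.toSpanSingleton L V a).restrictScalars F)
  obtain ⟨z, hz, hz0⟩ := Z.exists_mem_ne_zero_of_ne_bot fun e => by rw [e, finrank_bot] at hk; omega
  obtain ⟨k₀, hk₀⟩ := mem_line.1 hz.1
  have hk₀S : k₀ ∈ S := by show k₀ • a ∈ Z; rw [hk₀]; exact hz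
  obtain ⟨μ, hμa, hμy, y, hy, hμyZ⟩ : ∃ μ : Module.Dual L V, μ a = 0 ∧ μ y₀ • a ∈ Z ∧ ∃ y ∈ B, μ y • a ∉ Z := by
    by_cases hc : ∀ s ∈ S, ∀ y ∈ B, (s * μ₀ y) • a ∈ Z
    swap
    · push Not at hc
      obtain ⟨s, hs, y, hy, hne⟩ := hc
      exact ⟨s • μ₀, by simp [hμ₀a], by simp [hμ₀y]; exact hs, y, hy, by simpa using hne⟩
    have hR : ∀ y ∈ B, μ₀ y ∈ Set.range (algebraMap F L) := fun y hy => by
      refine mem_range_of_stable F hM.prime (fun e => hz0 ?_) (fun e => ?_)
        (fun s hs => by rw [mul_comm]; exact hc s hs y hy)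
      · rw [← hk₀, ((Submodule.mem_bot F).1 (e ▸ hk₀S) : k₀ = 0), zero_smul]
      · have hAZ : A ≤ Z := fun v hv => by
          obtain ⟨s, rfl⟩ := mem_line.1 hv
          exact (e ▸ Submodule.mem_top : s ∈ S)
        have := Submodule.finrank_mono hAZ
        rw [hA, finrank_line ha] at this
        omega
    obtain ⟨y', hy', hy'Z⟩ : ∃ y ∈ B, y ∉ Z ⊔ F ∙ y₀ := by
      by_contra hcon
      push Not at hcon
      have h1 := Submodule.finrank_mono (show B ≤ Z ⊔ F ∙ y₀ from hcon)
      have h2 := Submodule.finrank_add_le_finrank_add_finrank Z (F ∙ y₀)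
      have h3 : Module.finrank F (F ∙ y₀) ≤ 1 := by simpa using finrank_span_le_card (R := F) ({y₀} : Set V)
      omega
    obtain ⟨f, hf⟩ := hR y' hy'
    set y₁ := y' - f • y₀ with hy₁
    have hy₁B : y₁ ∈ B := B.sub_mem hy' (B.smul_mem f hy₀)
    have hy₁μ : μ₀ y₁ = 0 := by
      rw [hy₁, map_sub, LinearMap.map_smul_of_tower, hμ₀y, Algebra.smul_def, mul_one, hf, sub_self]
    have hy₁n : y₁ ∉ Submodule.span L {a, y₀} := by
      intro hm
      obtain ⟨c, d, hcd⟩ := Submodule.mem_span_pair.1 hm
      have hd : d = 0 := by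
        have := congrArg μ₀ hcd
        simpa [hμ₀a, hμ₀y, hy₁μ] using this
      rw [hd, zero_smul, add_zero] at hcd
      refine hy'Z ?_
      rw [show y' = y₁ + f • y₀ by rw [hy₁, sub_add_cancel]]
      exact Submodule.add_mem_sup ⟨mem_line.2 ⟨c, hcd⟩, hy₁B⟩ (Submodule.smul_mem _ f (Submodule.mem_span_singleton_self y₀))
    obtain ⟨t, ht⟩ : ∃ t : L, t • a ∉ Z := by
      by_contra hcon
      push Not at hcon
      have hAZ : A ≤ Z := fun v hv => by
        obtain ⟨s, rfl⟩ := mem_line.1 hv
        exact hcon s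
      have := Submodule.finrank_mono hAZ
      rw [hA, finrank_line ha] at this
      omega
    obtain ⟨ν, hν, hνy⟩ := exists_form_eq hy₁n t
    have hνa : ν a = 0 := hν a (Submodule.subset_span (by simp))
    have hνy₀ : ν y₀ = 0 := hν y₀ (Submodule.subset_span (by simp))
    exact ⟨k₀ • μ₀ + ν, by simp [hμ₀a, hνa], by simp [hμ₀y, hνy₀, hk₀]; exact hz, y₁, hy₁B,
      by simpa [hy₁μ, hνy] using ht⟩
  obtain ⟨x, hx, ex⟩ := hM.tv μ a hμa
  have hxv : ∀ v, (x : Module.End F V) v = v + μ v • a := fun v => by simp [ex]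
  have hZμ : ∀ v ∈ Z, μ v = 0 := fun v hv => by
    obtain ⟨s, rfl⟩ := mem_line.1 hv.1
    simp [hμa]
  refine ⟨g⁻¹ * x * g, mul_mem (mul_mem (inv_mem hg) hx) hg, ?_, fun e => hμyZ ?_⟩
  · set P := Z ⊔ F ∙ (y₀ + μ y₀ • a) with hP
    have hPr : k + 1 ≤ Module.finrank F P := by
      rw [← hk]
      refine Submodule.finrank_lt_finrank_of_lt (lt_of_le_of_ne le_sup_left fun e => hy₀Z ?_)
      have : y₀ + μ y₀ • a ∈ Z := e ▸ Submodule.mem_sup_right (Submodule.mem_span_singleton_self _)
      simpa using Z.sub_mem this hμy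
    have hle : P.map ((g⁻¹ : (Module.End F V)ˣ) : Module.End F V) ≤
        A ⊓ A.map ((g⁻¹ * x * g : (Module.End F V)ˣ) : Module.End F V) := by
      rw [Submodule.map_le_iff_le_comap, hP, sup_le_iff, Submodule.span_singleton_le_iff_mem]
      have hin : ∀ {p v : V}, v ∈ B → (x : Module.End F V) v = p → p ∈ B →
          ((g⁻¹ : (Module.End F V)ˣ) : Module.End F V) p ∈ A ⊓ A.map ((g⁻¹ * x * g : (Module.End F V)ˣ) : Module.End F V) := by
        rintro p v ⟨w, hw, rfl⟩ hp hpB
        obtain ⟨w', hw', rfl⟩ := hpB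
        refine ⟨by rwa [inv_apply_apply], w, hw, ?_⟩
        simp [Module.End.mul_apply, hp]
      refine ⟨fun v hv => hin hv.2 (by rw [hxv, hZμ v hv, zero_smul, add_zero]) hv.2, ?_⟩
      exact hin hy₀ (hxv y₀) (B.add_mem hy₀ hμy.2)
    refine le_trans ?_ (Submodule.finrank_mono hle)
    rwa [← (Submodule.equivMapOfInjective _ (map_unit_inj g⁻¹) P).finrank_eq]
  · refine ⟨smul_mem_line a _, ?_⟩
    obtain ⟨w, hw, rfl⟩ := hy
    have h1 : ((g⁻¹ * x * g : (Module.End F V)ˣ) : Module.End F V) w ∈ A := e ▸ Submodule.mem_map_of_mem hw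
    have h2 := Submodule.mem_map_of_mem (f := (g : Module.End F V)) h1
    simp only [Units.val_mul, Module.End.mul_apply, apply_inv_apply, hxv] at h2
    simpa using B.sub_mem h2 (Submodule.mem_map_of_mem (f := (g : Module.End F V)) hw)

/-- Two lines in the orbit meet in a hyperplane of each. -/
theorem exists_touching {u : (Module.End F V)ˣ} (hu : u ∈ M)
    (hn : ¬ ∀ s : L, ∃ t : L, ∀ v : V, (u : Module.End F V) (s • v) = t • (u : Module.End F V) v) :
    ∃ g ∈ M, ∃ a : V, a ≠ 0 ∧ (line F L a).map (g : Module.End F V) ≠ line F L a ∧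
      Module.finrank F (line F L a ⊓ (line F L a).map (g : Module.End F V) : Submodule F V) + 1 =
        Module.finrank F L := by
  haveI : FiniteDimensional F V := Module.Finite.trans L V
  obtain ⟨g₀, hg₀, a, ha, h1, hne₀⟩ := hM.exists_tilted hu hn
  suffices ∀ n, ∀ g ∈ M, (line F L a).map (g : Module.End F V) ≠ line F L a →
      ∀ k, Module.finrank F (line F L a ⊓ (line F L a).map (g : Module.End F V) : Submodule F V) = k → 1 ≤ k →
      Module.finrank F L ≤ k + n → ∃ g' ∈ M, ∃ b : V, b ≠ 0 ∧ (line F L b).map (g' : Module.End F V) ≠ line F L b ∧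
        Module.finrank F (line F L b ⊓ (line F L b).map (g' : Module.End F V) : Submodule F V) + 1 =
          Module.finrank F L by
    exact this _ g₀ hg₀ hne₀ _ rfl h1 (Nat.le_add_left _ _)
  intro n
  induction n with
  | zero =>
    intro g hg hne k hk h1 hle
    exfalso
    refine hne (Submodule.eq_of_le_of_finrank_eq ?_ (by rw [finrank_map_line g ha, finrank_line ha]))
    have hA : line F L a ⊓ (line F L a).map (g : Module.End F V) = line F L a :=
      Submodule.eq_of_le_of_finrank_le inf_le_left (by rw [finrank_line ha, hk]; omega)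
    have hB : line F L a ⊓ (line F L a).map (g : Module.End F V) = (line F L a).map (g : Module.End F V) :=
      Submodule.eq_of_le_of_finrank_le inf_le_right (by rw [finrank_map_line g ha, hk]; omega)
    exact (hB.symm.trans hA).le
  | succ n ih =>
    intro g hg hne k hk h1 hle
    by_cases hk2 : k + 2 ≤ Module.finrank F L
    · obtain ⟨g', hg', hbig, hne'⟩ := hM.exists_bigger hg ha hk h1 hk2
      exact ih g' hg' hne' _ rfl (by omega) (by omega)
    · refine ⟨g, hg, a, ha, hne, ?_⟩
      have hlt : k < Module.finrank F L := by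
        by_contra hlt
        apply hne
        have hA : line F L a ⊓ (line F L a).map (g : Module.End F V) = line F L a :=
          Submodule.eq_of_le_of_finrank_le inf_le_left (by rw [finrank_line ha, hk]; omega)
        have hB : line F L a ⊓ (line F L a).map (g : Module.End F V) = (line F L a).map (g : Module.End F V) :=
          Submodule.eq_of_le_of_finrank_le inf_le_right (by rw [finrank_map_line g ha, hk]; omega)
        exact hB.symm.trans hA
      omega

end Ext

end CfsgLib.FieldMax
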