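import Cfsg.Agent.Lib.FieldMax.Meet
import Cfsg.Agent.Lib.Maximal.FieldSub
import Cfsg.Agent.Lib.Maximal.Transvec

/-!
Extension-field subgroups of the linear groups: a group properly above the special part of such a normaliser
contains the special linear group.
-/

set_option autoImplicit false
set_option linter.style.haveILetI false

namespace CfsgLib.FieldMax

open scoped Matrix
open CfsgLib.Maximal (fieldOfSub tv tv_val tv_mulVec)

universe u

variable {F : Type u} [Field F] [Fintype F] {ι : Type} [Fintype ι] [DecidableEq ι]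

theorem exists_field_model {r : ℕ} {K : Subalgebra F (Matrix ι ι F)}
    (hK : Cfsg.Geo.IsFieldSubalgebra r K) [Nonempty ι] :
    ∃ (L : Type u) (_ : Field L) (_ : Algebra F L) (ρ : L →ₐ[F] Matrix ι ι F),
      Module.finrank F L = r ∧ ρ.range = K :=
  ⟨K, fieldOfSub K hK one_ne_zero, K.algebra, K.val, hK.finrank_eq, K.range_val⟩

/-- An element commuting with the field normalises it. -/
theorem mem_normalizer_of_commute {K : Subalgebra F (Matrix ι ι F)} {u : GL ι F}
    (hcomm : ∀ k ∈ K, (u : Matrix ι ι F) * k = k * u) : u ∈ Cfsg.Geo.subalgebraNormalizer K := by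
  intro k
  constructor
  · intro hk
    rwa [hcomm k hk, mul_assoc, ← Units.val_mul, mul_inv_cancel, Units.val_one, mul_one]
  · intro hk
    have e := hcomm _ hk
    have e' : (u : Matrix ι ι F) * k * ((u⁻¹ : GL ι F) : Matrix ι ι F) = k := by
      have := congrArg ((u⁻¹ : GL ι F) * · : Matrix ι ι F → Matrix ι ι F) e
      simp only [← mul_assoc, ← Units.val_mul, inv_mul_cancel, Units.val_one, one_mul] at this
      rw [this, mul_assoc k, ← Units.val_mul, inv_mul_cancel, Units.val_one, mul_one]
    rwa [e'] at hk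

theorem mem_of_hom {M : Subgroup (GL ι F)} {D : Module.End F (ι → F)}
    (h : Mem (M.map (Matrix.GeneralLinearGroup.toLin (n := ι) (R := F)).toMonoidHom) D) (g : GL ι F)
    (hg : ∀ v, (g : Matrix ι ι F) *ᵥ v = v + D v) : g ∈ M := by
  obtain ⟨u, hu, e⟩ := h
  obtain ⟨g', hg', rfl⟩ := hu
  suffices g' = g by rwa [← this]
  refine Units.ext (Matrix.ext_of_mulVec_single fun i => ?_)
  have := LinearMap.congr_fun e (Pi.single i 1)
  rw [hg]
  exact this

/-- An element mapping the field into itself normalises it. -/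
theorem mem_normalizer_of_le {K : Subalgebra F (Matrix ι ι F)} {g : GL ι F}
    (hfwd : ∀ k ∈ K, (g : Matrix ι ι F) * k * ((g⁻¹ : GL ι F) : Matrix ι ι F) ∈ K) :
    g ∈ Cfsg.Geo.subalgebraNormalizer K := by
  let c : K →ₗ[F] K :=
    { toFun := fun k => ⟨_, hfwd k k.2⟩
      map_add' := fun a b => Subtype.ext (by simp [mul_add, add_mul])
      map_smul' := fun a b => Subtype.ext (by simp) }
  have hc : Function.Surjective c := LinearMap.injective_iff_surjective.1 fun a b e => Subtype.ext (by
    have := congrArg (fun x : K => ((g⁻¹ : GL ι F) : Matrix ι ι F) * (x : Matrix ι ι F) * g) e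
    simpa [c, mul_assoc] using this)
  intro k
  refine ⟨hfwd k, fun hk => ?_⟩
  obtain ⟨k', hk'⟩ := hc ⟨_, hk⟩
  have := congrArg (fun x : K => ((g⁻¹ : GL ι F) : Matrix ι ι F) * (x : Matrix ι ι F) * g) hk'
  simp [c, mul_assoc] at this
  exact this ▸ k'.2

/-- The extension-field argument for matrix groups, up to finding a transvection. -/
theorem ext_of_field {r : ℕ} {K : Subalgebra F (Matrix ι ι F)} (hK : Cfsg.Geo.IsFieldSubalgebra r K) (hr : r.Prime)
    (hlt : r < Fintype.card ι) {M : Subgroup (GL ι F)}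
    (hM : ∀ g : GL ι F, g ∈ Cfsg.Geo.specialLinear ι F → g ∈ Cfsg.Geo.subalgebraNormalizer K → g ∈ M)
    {g : GL ι F} (hg : g ∈ M) (hgn : g ∉ Cfsg.Geo.subalgebraNormalizer K)
    (hsmall : ∀ (L : Type u) [Field L] [Algebra F L] [Module L (ι → F)] [IsScalarTower F L (ι → F)]
      [FiniteDimensional F L] [FiniteDimensional L (ι → F)] (M' : Subgroup (Module.End F (ι → F))ˣ),
      Module.finrank F L = 2 → Module.finrank L (ι → F) = 2 → Ext L M' → ∀ u ∈ M', ∀ a : ι → F, a ≠ 0 →
        (line F L a).map (u : Module.End F (ι → F)) ≠ line F L a →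
        Module.finrank F (line F L a ⊓ (line F L a).map (u : Module.End F (ι → F)) : Submodule F (ι → F)) + 1 = 2 →
        Fintype.card ι = 4 → HasTv M') :
    Cfsg.Geo.specialLinear ι F ≤ M := by
  classical
  haveI : Nonempty ι := Fintype.card_pos_iff.1 (by omega)
  obtain ⟨L, iL, aL, ρ, hfin, hρ⟩ := exists_field_model hK
  letI : Module L (ι → F) := Module.compHom (ι → F)
    ((Matrix.toLinAlgEquiv' (R := F) (n := ι)).toAlgHom.toRingHom.comp ρ.toRingHom)
  have hsmul : ∀ (x : L) (v : ι → F), x • v = ρ x *ᵥ v := fun _ _ => rfl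
  haveI : IsScalarTower F L (ι → F) := ⟨fun a x v => by
    rw [hsmul, hsmul, map_smul]
    exact Matrix.smul_mulVec a (ρ x) v⟩
  have hρK : ∀ k ∈ K, ∃ x, ρ x = k := fun k hk => by
    rw [← hρ] at hk
    exact hk
  have hρmem : ∀ x, ρ x ∈ K := fun x => hρ ▸ ⟨x, rfl⟩
  haveI : FiniteDimensional F L := Module.finite_of_finrank_pos (by rw [hfin]; exact hr.pos)
  haveI : FiniteDimensional L (ι → F) := Module.Finite.of_restrictScalars_finite F L (ι → F)
  have hdim : r * Module.finrank L (ι → F) = Fintype.card ι := by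
    rw [← hfin, Module.finrank_mul_finrank, Module.finrank_fintype_fun_eq_card]
  set T := (Matrix.GeneralLinearGroup.toLin (n := ι) (R := F))
  have hmem : ∀ f : (ι → F) →ₗ[L] (ι → F), Algebra.norm F (LinearMap.det f) = 1 →
      ∃ u ∈ M.map T.toMonoidHom, (u : Module.End F (ι → F)) = f.restrictScalars F := by
    intro f hf
    have hdet : (LinearMap.toMatrix' (f.restrictScalars F)).det = 1 := by
      rw [LinearMap.det_toMatrix', LinearMap.det_restrictScalars, hf]
    let u : GL ι F := Matrix.GeneralLinearGroup.mkOfDetNeZero (LinearMap.toMatrix' (f.restrictScalars F))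
      (by rw [hdet]; exact one_ne_zero)
    have hu : ∀ v, (u : Matrix ι ι F) *ᵥ v = f v := fun v => LinearMap.toMatrix'_mulVec _ _
    refine ⟨T u, Subgroup.mem_map_of_mem _ (hM u ((CfsgLib.Maximal.mem_specialLinear_iff _).2 hdet) ?_), LinearMap.ext hu⟩
    have hcomm : ∀ k ∈ K, (u : Matrix ι ι F) * k = k * u := fun k hk => by
      refine Matrix.ext_of_mulVec_single fun i => ?_
      obtain ⟨x, rfl⟩ := hρK k hk
      rw [← Matrix.mulVec_mulVec, ← Matrix.mulVec_mulVec, hu, hu]
      exact f.map_smul x _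
    exact mem_normalizer_of_commute hcomm
  have hExt : Ext L (M.map T.toMonoidHom) := by
    refine ⟨fun μ c hμ => ?_, fun μ b t hb ht => ?_, hfin ▸ hr, ?_⟩
    · obtain ⟨u, hu, e⟩ := hmem (LinearMap.transvection μ c) (by
        rw [LinearMap.transvection.det, hμ, add_zero, map_one])
      exact ⟨u, hu, by rw [e]; rfl⟩
    · obtain ⟨u, hu, e⟩ := hmem (LinearMap.transvection μ ((t - 1) • b)) (by
        rw [LinearMap.transvection.det, map_smul, hb, smul_eq_mul, mul_one, add_sub_cancel, ht])
      exact ⟨u, hu, by rw [e]; rfl⟩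
    · by_contra hlt'
      have : r * Module.finrank L (ι → F) ≤ r * 1 := Nat.mul_le_mul_left r (by omega)
      omega
  have hgn' : ¬ ∀ s : L, ∃ t : L, ∀ v, (T g : Module.End F (ι → F)) (s • v) = t • (T g : Module.End F (ι → F)) v := by
    intro h
    refine hgn ?_
    have hfwd : ∀ k ∈ K, (g : Matrix ι ι F) * k * ((g⁻¹ : GL ι F) : Matrix ι ι F) ∈ K := by
      intro k hk
      obtain ⟨x, rfl⟩ := hρK k hk
      obtain ⟨t, ht⟩ := h x
      have e : (g : Matrix ι ι F) * ρ x = ρ t * g := Matrix.ext_of_mulVec_single fun i => by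
        rw [← Matrix.mulVec_mulVec, ← Matrix.mulVec_mulVec]
        exact ht _
      rw [e, mul_assoc, ← Units.val_mul, mul_inv_cancel, Units.val_one, mul_one]
      exact hρmem t
    exact mem_normalizer_of_le hfwd
  obtain ⟨u, hu, a, ha, hne, hk⟩ := hExt.exists_touching (u := T g) (Subgroup.mem_map_of_mem _ hg) hgn'
  have htv : HasTv (M.map T.toMonoidHom) := by
    by_cases h4 : 3 ≤ Module.finrank F L ∨ 3 ≤ Module.finrank L (ι → F)
    · exact hExt.hasTv_of_touching hu ha hne hk h4
    push Not at h4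
    have h2 := hExt.two_le
    have h2' := hExt.dim
    have e1 : Module.finrank F L = 2 := by omega
    have e2 : Module.finrank L (ι → F) = 2 := by omega
    refine hsmall L _ e1 e2 hExt u hu a ha hne (hk.trans e1) ?_
    rw [← hdim, e2, show r = 2 by omega]
  obtain ⟨φ, b, hφb, hφ, hb, hmem'⟩ := htv
  have hall := hExt.all_transvections hφb hφ hb hmem'
  refine CfsgLib.Maximal.specialLinear_le_of_tv M fun x ψ hψ => ?_
  exact mem_of_hom (hall (dotProductEquiv F ι ψ) x hψ) _ fun v => tv_mulVec x ψ hψ v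

end CfsgLib.FieldMax
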