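import Cfsg.Agent.Lib.FieldMax.Lines

/-!
Two touching lines give a transvection, except in dimension four over the base field.
-/

set_option autoImplicit false

namespace CfsgLib.FieldMax

variable {F L V : Type*} [Field F] [Field L] [Algebra F L] [AddCommGroup V] [Module F V] [Module L V]
  [IsScalarTower F L V]

variable {M : Subgroup (Module.End F V)ˣ}

/-- The group contains a transvection. -/
def HasTv (M : Subgroup (Module.End F V)ˣ) : Prop :=
  ∃ (φ : Module.Dual F V) (a : V), φ a = 0 ∧ φ ≠ 0 ∧ a ≠ 0 ∧ Mem M (φ.smulRight a)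

theorem hasTv_of_range {D : Module.End F V} {z : V} (hz : z ≠ 0) (hD : ∀ v, D v ∈ F ∙ z) (hDz : D z = 0)
    (hD0 : D ≠ 0) (h : Mem M D) : HasTv M := by
  let e := (LinearEquiv.toSpanNonzeroSingleton F V z hz).symm
  let φ : Module.Dual F V := e.toLinearMap ∘ₗ D.codRestrict (F ∙ z) hD
  have hφ : ∀ v, φ v • z = D v := fun v => by
    have := congrArg Subtype.val ((LinearEquiv.toSpanNonzeroSingleton F V z hz).apply_symm_apply ⟨D v, hD v⟩)
    rwa [LinearEquiv.toSpanNonzeroSingleton_apply] at this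
  have hDφ : (φ.smulRight z : Module.End F V) = D := LinearMap.ext fun v => by simpa using hφ v
  refine ⟨φ, z, ?_, fun e0 => hD0 ?_, hz, by rw [hDφ]; exact h⟩
  · have := hφ z
    rw [hDz, smul_eq_zero] at this
    exact this.resolve_right hz
  · rw [← hDφ, e0]; ext v; simp

theorem sq_zero_of {D : Module.End F V} {P : Submodule F V} (h1 : ∀ v, D v ∈ P) (h2 : ∀ v ∈ P, D v = 0) :
    D * D = 0 :=
  LinearMap.ext fun v => h2 _ (h1 v)

theorem exists_between {P A : Submodule F V} [FiniteDimensional F A] (hle : P ≤ A)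
    (h : Module.finrank F P + 1 = Module.finrank F A) : ∃ w, w ∈ A ∧ w ∉ P ∧ A = P ⊔ F ∙ w := by
  have hlt : P < A := lt_of_le_of_ne hle fun e => by rw [e] at h; omega
  obtain ⟨w, hw, hwP⟩ := SetLike.exists_of_lt hlt
  refine ⟨w, hw, hwP, (Submodule.eq_of_le_of_finrank_le (sup_le hle ((Submodule.span_singleton_le_iff_mem _ _).2 hw)) ?_).symm⟩
  have h1 : P < P ⊔ F ∙ w := lt_of_le_of_ne le_sup_left fun e =>
    hwP (e ▸ Submodule.mem_sup_right (Submodule.mem_span_singleton_self w))
  haveI : FiniteDimensional F (P ⊔ F ∙ w : Submodule F V) :=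
    Submodule.finiteDimensional_of_le (sup_le hle ((Submodule.span_singleton_le_iff_mem _ _).2 hw))
  have := Submodule.finrank_lt_finrank_of_lt h1
  omega

theorem lin1_conj_apply (g : (Module.End F V)ˣ) (μ : Module.Dual L V) (a v : V) :
    (((g : Module.End F V) * lin1 μ a * ((g⁻¹ : (Module.End F V)ˣ) : Module.End F V) : Module.End F V)) v =
      (g : Module.End F V) (μ (((g⁻¹ : (Module.End F V)ˣ) : Module.End F V) v) • a) := rfl

namespace Ext

variable [Fintype F] [FiniteDimensional F L] [FiniteDimensional L V] (hM : Ext L M)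

include hM

/-- Touching lines give a transvection. -/
theorem hasTv_of_touching {g : (Module.End F V)ˣ} (hg : g ∈ M) {a : V} (ha : a ≠ 0)
    (hne : (line F L a).map (g : Module.End F V) ≠ line F L a)
    (hk : Module.finrank F (line F L a ⊓ (line F L a).map (g : Module.End F V) : Submodule F V) + 1 =
      Module.finrank F L)
    (h4 : 3 ≤ Module.finrank F L ∨ 3 ≤ Module.finrank L V) : HasTv M := by
  haveI : FiniteDimensional F V := Module.Finite.trans L V
  have hr := hM.two_le
  set A := line F L a with hA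
  set B := A.map (g : Module.End F V) with hB
  set Z := A ⊓ B with hZ
  obtain ⟨w, hwB, hwZ, hBw⟩ := exists_between (inf_le_right : Z ≤ B) (by rw [finrank_map_line g ha]; exact hk)
  obtain ⟨w', hwA', hwZ', hAw⟩ := exists_between (inf_le_left : Z ≤ A) (by rw [hA, finrank_line ha]; exact hk)
  have hwA : w ∉ L ∙ a := fun h => hwZ ⟨h, hwB⟩
  set gi := ((g⁻¹ : (Module.End F V)ˣ) : Module.End F V) with hgi
  have hgiA : ∀ {v}, v ∈ B → gi v ∈ A := by
    rintro v ⟨x, hx, rfl⟩
    rw [hgi, inv_apply_apply]; exact hx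
  have hw'A : gi w' ∉ L ∙ a := fun h => hwZ' ⟨hwA', by
    have := Submodule.mem_map_of_mem (f := (g : Module.End F V)) (show gi w' ∈ A from h)
    rwa [hgi, apply_inv_apply] at this⟩
  obtain ⟨z, hzZ, hz0⟩ := Z.exists_mem_ne_zero_of_ne_bot fun e => by rw [e, finrank_bot] at hk; omega
  obtain ⟨z', hzZ', hz'0, hzz⟩ : ∃ z' ∈ Z, z' ≠ 0 ∧ (3 ≤ Module.finrank F L → z' ∉ F ∙ z) := by
    by_cases h3 : 3 ≤ Module.finrank F L
    · by_contra hcon
      push Not at hcon
      have hle : Z ≤ F ∙ z := fun v hv => by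
        rcases eq_or_ne v 0 with rfl | hv0
        · exact zero_mem _
        · exact (hcon v hv hv0).2
      have := Submodule.finrank_mono hle
      rw [finrank_span_singleton hz0] at this
      omega
    · exact ⟨z, hzZ, hz0, fun h => absurd h h3⟩
  obtain ⟨s, hs⟩ := mem_line.1 hzZ.1
  obtain ⟨s', hs'⟩ := mem_line.1 (hgiA hzZ'.2)
  have hs'0 : s' ≠ 0 := fun e => hz'0 (map_unit_inj g⁻¹ (by rw [map_zero, ← hgi, ← hs', e, zero_smul]))
  obtain ⟨μ₂, hμ₂, hμ₂w⟩ := exists_form_eq hw'A s'
  have hμ₂a : μ₂ a = 0 := hμ₂ a (Submodule.mem_span_singleton_self a)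
  set C : Module.End F V := (g : Module.End F V) * lin1 μ₂ a * gi with hC
  have hCmem : Mem M C := (hM.tv μ₂ a hμ₂a).conj hg
  have hCv : ∀ v, C v = (g : Module.End F V) (μ₂ (gi v) • a) := lin1_conj_apply g μ₂ a
  have hCB : ∀ v, C v ∈ B := fun v => by rw [hCv]; exact Submodule.mem_map_of_mem (smul_mem_line a _)
  have hC0 : ∀ v ∈ B, C v = 0 := fun v hv => by
    obtain ⟨t, ht⟩ := mem_line.1 (hgiA hv)
    rw [hCv, ← ht]; simp [hμ₂a]
  have hCw' : C w' = z' := by rw [hCv, hμ₂w, hs', hgi, apply_inv_apply]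
  have hCA : ∀ v ∈ A, C v ∈ F ∙ z' := fun v hv => by
    rw [hAw, Submodule.mem_sup] at hv
    obtain ⟨p, hp, q, hq, rfl⟩ := hv
    obtain ⟨c, rfl⟩ := Submodule.mem_span_singleton.1 hq
    rw [map_add, hC0 p hp.2, zero_add, map_smul, hCw']
    exact Submodule.smul_mem _ c (Submodule.mem_span_singleton_self _)
  -- a commutator with an element of the root group of the first line
  have hcom : ∀ μ : Module.Dual L V, μ a = 0 → μ w = s →
      Mem M (lin1 μ a * C - C * lin1 μ a) ∧ (∀ v ∈ B, (lin1 (F := F) μ a) v ∈ F ∙ z) := by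
    intro μ hμ hμw
    have hXA : ∀ v ∈ A, (lin1 (F := F) μ a) v = 0 := fun v hv => by
      obtain ⟨t, rfl⟩ := mem_line.1 hv
      simp [hμ]
    have hXB : ∀ v ∈ B, (lin1 (F := F) μ a) v ∈ F ∙ z := fun v hv => by
      rw [hBw, Submodule.mem_sup] at hv
      obtain ⟨p, hp, q, hq, rfl⟩ := hv
      obtain ⟨c, rfl⟩ := Submodule.mem_span_singleton.1 hq
      rw [map_add, hXA p hp.1, zero_add, map_smul]
      refine Submodule.smul_mem _ c (Submodule.mem_span_singleton.2 ⟨1, ?_⟩)
      simp [hμw, hs]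
    refine ⟨(hM.tv μ a hμ).commutator hCmem (sq_zero_of (fun v => smul_mem_line a _) hXA) (sq_zero_of hCB hC0) ?_ ?_, hXB⟩
    · ext v
      simp only [Module.End.mul_apply, LinearMap.zero_apply]
      obtain ⟨c, hc⟩ := Submodule.mem_span_singleton.1 (hCA _ (smul_mem_line a (μ v)))
      rw [show (lin1 μ a : Module.End F V) v = μ v • a from rfl, ← hc, map_smul, hXA z' hzZ'.1, smul_zero]
    · ext v
      simp only [Module.End.mul_apply, LinearMap.zero_apply]
      obtain ⟨c, hc⟩ := Submodule.mem_span_singleton.1 (hXB _ (hCB v))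
      rw [← hc, map_smul, hC0 z hzZ.2, smul_zero]
  obtain ⟨μ, hμ, hμw⟩ := exists_form_eq hwA s
  have hμa : μ a = 0 := hμ a (Submodule.mem_span_singleton_self a)
  obtain ⟨hD, hXB⟩ := hcom μ hμa hμw
  have hXA : ∀ v ∈ A, (lin1 (F := F) μ a) v = 0 := fun v hv => by
    obtain ⟨t, rfl⟩ := mem_line.1 hv
    simp [hμa]
  set D := lin1 μ a * C - C * lin1 μ a with hDdef
  have hDv : ∀ v, D v = (lin1 (F := F) μ a) (C v) - C ((lin1 (F := F) μ a) v) := fun v => by simp [D, Module.End.mul_apply]
  have hDrange : ∀ v, D v ∈ (F ∙ z) ⊔ (F ∙ z') := fun v => by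
    rw [hDv]
    exact Submodule.sub_mem _ (Submodule.mem_sup_left (hXB _ (hCB v))) (Submodule.mem_sup_right (hCA _ (smul_mem_line a _)))
  by_cases h3 : 3 ≤ Module.finrank F L
  · -- spread the image by a norm-one scalar, and commute again
    obtain ⟨x, hx⟩ : ∃ x, C x = w := by
      obtain ⟨t, ht⟩ := mem_line.1 (hgiA hwB)
      obtain ⟨q, hq⟩ : ∃ q, μ₂ q = t := ⟨(t / s') • gi w', by simp [hμ₂w, div_mul_cancel₀ _ hs'0]⟩
      exact ⟨(g : Module.End F V) q, by rw [hCv, hgi, inv_apply_apply, hq, ht, hgi, apply_inv_apply]⟩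
    have hDx : D x ∈ Z := (sup_le ((Submodule.span_singleton_le_iff_mem _ _).2 hzZ)
      ((Submodule.span_singleton_le_iff_mem _ _).2 hzZ') : _ ≤ Z) (hDrange x)
    have hDx0 : D x ≠ 0 := by
      intro h0
      rw [hDv, sub_eq_zero, hx, show (lin1 (F := F) μ a) w = z by simp [hμw, hs]] at h0
      obtain ⟨c, hc⟩ := Submodule.mem_span_singleton.1 (h0 ▸ hCA _ (smul_mem_line a (μ x)) : z ∈ F ∙ z')
      have hc0 : c ≠ 0 := fun e => hz0 (by rw [← hc, e, zero_smul])
      refine hzz h3 (Submodule.mem_span_singleton.2 ⟨c⁻¹, ?_⟩)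
      rw [← hc, inv_smul_smul₀ hc0]
    obtain ⟨e, he⟩ := mem_line.1 hDx.1
    have he0 : e ≠ 0 := fun h => hDx0 (by rw [← he, h, zero_smul])
    obtain ⟨t, ht, htZ⟩ : ∃ t : L, Algebra.norm F t = 1 ∧ (t * e) • a ∉ Z := by
      by_contra hcon
      push Not at hcon
      let S : AddSubgroup L :=
        { carrier := {c | ∀ t : L, Algebra.norm F t = 1 → (t * c) • a ∈ Z}
          zero_mem' := fun t _ => by simp
          add_mem' := fun {c c'} hc hc' t ht => by rw [mul_add, add_smul]; exact Z.add_mem (hc t ht) (hc' t ht)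
          neg_mem' := fun {c} hc t ht => by rw [mul_neg, neg_smul]; exact Z.neg_mem (hc t ht) }
      have hall : ∀ c, c ∈ S := stable_eq_top F hr S (fun t' ht' c hc t ht => by
        rw [← mul_assoc]; exact hc _ (by rw [map_mul, ht, ht', one_mul])) (s₀ := e) hcon he0
      have hAZ : A ≤ Z := fun v hv => by
        obtain ⟨c, rfl⟩ := mem_line.1 hv
        simpa using hall c 1 (map_one _)
      have := Submodule.finrank_mono hAZ
      rw [hA, finrank_line ha] at this
      omega
    obtain ⟨ν, hν, hνa⟩ := exists_form_eq (show a ∉ L ∙ w from fun h => by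
      obtain ⟨c, hc⟩ := Submodule.mem_span_singleton.1 h
      have hc0 : c ≠ 0 := fun e => ha (by rw [← hc, e, zero_smul])
      exact hwA (Submodule.mem_span_singleton.2 ⟨c⁻¹, by rw [← hc, inv_smul_smul₀ hc0]⟩)) 1
    have hνw : ν w = 0 := hν w (Submodule.mem_span_singleton_self w)
    obtain ⟨h, hh, eh⟩ := hM.tor ν a t hνa ht
    have hhv : ∀ v, (h : Module.End F V) v = v + (ν v * (t - 1)) • a := fun v => by
      simp [eh, smul_smul]
    have hhA : ∀ v ∈ A, (h : Module.End F V) v = t • v := fun v hv => by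
      obtain ⟨c, rfl⟩ := mem_line.1 hv
      rw [hhv, map_smul, hνa, smul_eq_mul, mul_one, mul_sub, mul_one, sub_smul, mul_comm c t, mul_smul]
      abel
    set D' := (h : Module.End F V) * D * ((h⁻¹ : (Module.End F V)ˣ) : Module.End F V) with hD'
    have hD'h : ∀ v, D' ((h : Module.End F V) v) = (h : Module.End F V) (D v) := fun v => by
      simp [D', Module.End.mul_apply, inv_apply_apply]
    have hDA0 : ∀ v ∈ A, D v = 0 := fun v hv => by
      rw [hDv, hXA v hv, map_zero, sub_zero]
      obtain ⟨c, hc⟩ := Submodule.mem_span_singleton.1 (hCA v hv)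
      rw [← hc, map_smul, hXA z' hzZ'.1, smul_zero]
    have hDw : D w = 0 := by
      rw [hDv, hC0 w hwB, map_zero, zero_sub, show (lin1 (F := F) μ a) w = z by simp [hμw, hs], hC0 z hzZ.2, neg_zero]
    have hZle : (F ∙ z) ⊔ (F ∙ z') ≤ Z := sup_le ((Submodule.span_singleton_le_iff_mem _ _).2 hzZ)
      ((Submodule.span_singleton_le_iff_mem _ _).2 hzZ')
    have hD'A : ∀ v, D' v ∈ A := fun v => by
      rw [← apply_inv_apply h v, hD'h, hhA _ (hZle (hDrange _)).1]
      exact (L ∙ a).smul_mem t (hZle (hDrange _)).1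
    have hD'A0 : ∀ v ∈ A, D' v = 0 := fun v hv => by
      have ht0 : t ≠ 0 := fun h0 => by simp [h0] at ht
      have hv' : t⁻¹ • v ∈ A := (L ∙ a).smul_mem _ hv
      rw [show v = (h : Module.End F V) (t⁻¹ • v) by rw [hhA _ hv', smul_inv_smul₀ ht0], hD'h, hDA0 _ hv', map_zero]
    have hD'B : ∀ v ∈ B, D' v = 0 := fun v hv => by
      rw [hBw, Submodule.mem_sup] at hv
      obtain ⟨p, hp, q, hq, rfl⟩ := hv
      obtain ⟨c, rfl⟩ := Submodule.mem_span_singleton.1 hq
      have hw0 : D' w = 0 := by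
        have := hD'h w
        rwa [show (h : Module.End F V) w = w by simp [hhv, hνw], hDw, map_zero] at this
      rw [map_add, hD'A0 p hp.1, map_smul, hw0, smul_zero, add_zero]
    have hDC : D' * C = 0 := LinearMap.ext fun v => hD'B _ (hCB v)
    have hm := (hD.conj hh).commutator hCmem (sq_zero_of hD'A hD'A0) (sq_zero_of hCB hC0)
      (by rw [hDC, zero_mul]) (by rw [mul_assoc, hDC, mul_zero])
    rw [← hD', hDC, zero_sub] at hm
    refine hasTv_of_range hz'0 (fun v => ?_) ?_ (fun e0 => ?_) hm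
    · simp only [LinearMap.neg_apply, Module.End.mul_apply]
      exact Submodule.neg_mem _ (hCA _ (hD'A v))
    · simp [Module.End.mul_apply, hD'A0 z' hzZ'.1]
    · have h1 := LinearMap.congr_fun e0 ((h : Module.End F V) x)
      simp only [LinearMap.neg_apply, Module.End.mul_apply, hD'h, hhA _ hDx.1, LinearMap.zero_apply, neg_eq_zero] at h1
      have htA : t • D x ∈ A := (L ∙ a).smul_mem t hDx.1
      rw [hAw, Submodule.mem_sup] at htA
      obtain ⟨p, hp, q, hq, hpq⟩ := htA
      obtain ⟨c, rfl⟩ := Submodule.mem_span_singleton.1 hq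
      rw [← hpq, map_add, hC0 p hp.2, map_smul, hCw', zero_add, smul_eq_zero] at h1
      rcases h1 with rfl | h1
      · refine htZ ?_
        rw [mul_smul, he, ← hpq, zero_smul, add_zero]
        exact hp
      · exact hz'0 h1
  · -- degree two, dimension at least three
    have hm3 : 3 ≤ Module.finrank L V := h4.resolve_left h3
    have hzspan : F ∙ z' = F ∙ z := by
      have hZ1 : Module.finrank F Z = 1 := by omega
      have e1 : F ∙ z = Z := Submodule.eq_of_le_of_finrank_eq ((Submodule.span_singleton_le_iff_mem _ _).2 hzZ)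
        (by rw [finrank_span_singleton hz0, hZ1])
      have e2 : F ∙ z' = Z := Submodule.eq_of_le_of_finrank_eq ((Submodule.span_singleton_le_iff_mem _ _).2 hzZ')
        (by rw [finrank_span_singleton hz'0, hZ1])
      rw [e1, e2]
    obtain ⟨y, hy⟩ : ∃ y, y ∉ Submodule.span L {a, w} := by
      by_contra hcon
      push Not at hcon
      classical
      have h2 := finrank_span_le_card (R := L) ({a, w} : Set V)
      rw [show Submodule.span L {a, w} = ⊤ from eq_top_iff.2 fun v _ => hcon v, finrank_top] at h2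
      have : ({a, w} : Set V).toFinset.card ≤ 2 := by
        rw [Set.toFinset_insert, Set.toFinset_singleton]; exact Finset.card_le_two
      omega
    obtain ⟨c, hc⟩ := mem_line.1 hwA'
    obtain ⟨ν, hν, hνy⟩ := exists_form_eq hy c
    have hνa : ν a = 0 := hν a (Submodule.subset_span (by simp))
    have hνw : ν w = 0 := hν w (Submodule.subset_span (by simp))
    have key : ∀ μ' : Module.Dual L V, μ' a = 0 → μ' w = s → lin1 μ' a * C - C * lin1 μ' a ≠ 0 → HasTv M := by
      intro μ' h1 h2 h0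
      obtain ⟨hD', hXB'⟩ := hcom μ' h1 h2
      refine hasTv_of_range hz0 (fun v => ?_) ?_ h0 hD'
      · simp only [LinearMap.sub_apply, Module.End.mul_apply]
        exact Submodule.sub_mem _ (hXB' _ (hCB v)) (hzspan ▸ hCA _ (smul_mem_line a _))
      · obtain ⟨t, ht⟩ := mem_line.1 hzZ.1
        simp only [LinearMap.sub_apply, Module.End.mul_apply, hC0 z hzZ.2, map_zero, zero_sub]
        rw [← ht]; simp [h1]
    by_cases hD0 : D = 0
    swap
    · exact key μ hμa hμw hD0
    refine key (μ + ν) (by simp [hμa, hνa]) (by simp [hμw, hνw]) fun h0 => hz'0 ?_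
    have h1 := LinearMap.congr_fun h0 y
    have h2 := LinearMap.congr_fun hD0 y
    rw [hDdef] at h2
    simp only [LinearMap.sub_apply, Module.End.mul_apply, LinearMap.zero_apply] at h1 h2
    have hνB : ∀ v ∈ B, ν v = 0 := fun v hv => by
      rw [hBw, Submodule.mem_sup] at hv
      obtain ⟨p, hp, q, hq, rfl⟩ := hv
      obtain ⟨f, rfl⟩ := Submodule.mem_span_singleton.1 hq
      obtain ⟨t, rfl⟩ := mem_line.1 hp.1
      simp [hνa, hνw]
    have e1 : ∀ v, (lin1 (F := F) (μ + ν) a) v = (lin1 (F := F) μ a) v + ν v • a := fun v => by simp [add_smul]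
    rw [e1, e1, hνB _ (hCB y), zero_smul, add_zero, hνy, hc, map_add, hCw', ← sub_sub, h2, zero_sub, neg_eq_zero] at h1
    exact h1

end Ext

end CfsgLib.FieldMax
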