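import Mathlib

/-!
Fields over a finite field: norm-one elements generate additively; functionals come from semilinear data.
-/

set_option autoImplicit false

namespace CfsgLib.FieldMax

variable (F : Type*) {L : Type*} [Field F] [Fintype F] [Field L] [Algebra F L] [FiniteDimensional F L]

/-- An additive subgroup stable under multiplication by the elements of norm one is zero or everything. -/
theorem stable_eq_top (hr : 2 ≤ Module.finrank F L) (S : AddSubgroup L)
    (hS : ∀ t : L, Algebra.norm F t = 1 → ∀ s ∈ S, t * s ∈ S) {s₀ : L} (hs₀ : s₀ ∈ S) (h0 : s₀ ≠ 0) (x : L) :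
    x ∈ S := by
  classical
  haveI : Finite L := Module.finite_of_finite F
  let T : Subring L :=
    { carrier := {c | ∀ s ∈ S, c * s ∈ S}
      one_mem' := fun s hs => by rwa [one_mul]
      mul_mem' := fun {a b} ha hb s hs => by rw [mul_assoc]; exact ha _ (hb s hs)
      zero_mem' := fun s _ => by rw [zero_mul]; exact S.zero_mem
      add_mem' := fun {a b} ha hb s hs => by rw [add_mul]; exact S.add_mem (ha s hs) (hb s hs)
      neg_mem' := fun {a} ha s hs => by rw [neg_mul]; exact S.neg_mem (ha s hs) }
  suffices hT : ∀ c : L, c ∈ T by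
    have := hT (x / s₀) s₀ hs₀
    rwa [div_mul_cancel₀ _ h0] at this
  haveI : IsDomain T := inferInstance
  letI : Field T := (Finite.isField_of_domain T).toField
  set N : Lˣ →* Fˣ := Units.map (Algebra.norm F)
  have hker : Nat.card N.ker * (Fintype.card F - 1) ≥ Nat.card L - 1 := by
    rw [← Nat.card_units, ← Subgroup.card_mul_index N.ker, Subgroup.index_ker, ← Fintype.card_units]
    refine Nat.mul_le_mul_left _ ?_
    rw [← Nat.card_eq_fintype_card]
    exact Subgroup.card_le_card_group _
  have hle : Nat.card N.ker + 1 ≤ Nat.card T := by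
    let f : Option N.ker → T := fun o => o.elim 0 fun t => ⟨((t : Lˣ) : L), hS _ (by
      have := congrArg Units.val t.2
      simpa [N] using this)⟩
    have hf : Function.Injective f := by
      rintro (_ | a) (_ | b) h <;> simp only [f, Option.elim, Subtype.ext_iff] at h
      · rfl
      · exact absurd h.symm (Units.ne_zero _)
      · exact absurd h (Units.ne_zero _)
      · exact congrArg some (Subtype.ext (Units.ext h))
    have := Nat.card_le_card_of_injective f hf
    rwa [Finite.card_option] at this
  intro c
  by_contra hc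
  letI : Algebra T L := (Subring.subtype T).toAlgebra
  have hk : 2 ≤ Module.finrank T L := by
    by_contra hlt
    have h1 : Module.finrank T L = 1 := by
      have := Module.finrank_pos (R := T) (M := L)
      omega
    obtain ⟨v, hv, hv'⟩ := finrank_eq_one_iff'.1 h1
    obtain ⟨a, ha⟩ := hv' 1
    obtain ⟨b, hb⟩ := hv' c
    rw [Algebra.smul_def] at ha hb
    refine hc ?_
    have ha0 : (a : L) ≠ 0 := fun e => by
      rw [show algebraMap T L a = (a : L) from rfl, e, zero_mul] at ha; exact zero_ne_one ha
    have : c = ((b * a⁻¹ : T) : L) := by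
      have hinv : ((a⁻¹ : T) : L) = (a : L)⁻¹ := map_inv₀ (Subring.subtype T) a
      rw [Subring.coe_mul, hinv, ← hb]
      change (b : L) * v = _
      rw [eq_comm, ← mul_right_inj' ha0]
      change (a : L) * v = 1 at ha
      linear_combination (b : L) * (mul_inv_cancel₀ ha0) - (b : L) * ha
    exact this ▸ (b * a⁻¹).2
  have h2 : Nat.card T ^ 2 ≤ Nat.card L := by
    rw [Module.natCard_eq_pow_finrank (K := T) (V := L)]
    exact Nat.pow_le_pow_right Nat.card_pos hk
  have hq : 2 ≤ Fintype.card F := Fintype.one_lt_card
  have hL : Nat.card L = Fintype.card F ^ Module.finrank F L := by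
    rw [Module.natCard_eq_pow_finrank (K := F) (V := L), Nat.card_eq_fintype_card]
  obtain ⟨q, hq'⟩ : ∃ q, Fintype.card F = q + 1 := ⟨_, (Nat.sub_add_cancel (le_trans one_le_two hq)).symm⟩
  have hLq : (q + 1) ^ 2 ≤ Nat.card L := by
    rw [hL, hq']; exact Nat.pow_le_pow_right (by omega) hr
  rw [hq', Nat.add_sub_cancel] at hker
  have hLpos := Nat.card_pos (α := L)
  have hq1 : 1 ≤ q := by omega
  have h3 : Nat.card L ≤ Nat.card T * q := by
    have := Nat.mul_le_mul_right q hle
    rw [add_mul, one_mul] at this
    omega
  have h4 := Nat.mul_le_mul h3 h3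
  have h5 : Nat.card L * Nat.card L ≤ Nat.card L * (q * q) := by nlinarith
  have := Nat.le_of_mul_le_mul_left h5 hLpos
  nlinarith

omit [Fintype F] in
/-- In prime degree, a proper non-zero subspace is only stable under scalars from the base field. -/
theorem mem_range_of_stable (hr : (Module.finrank F L).Prime) {S : Submodule F L} (h0 : S ≠ ⊥) (h1 : S ≠ ⊤)
    {c : L} (hc : ∀ s ∈ S, c * s ∈ S) : c ∈ Set.range (algebraMap F L) := by
  let T : Subalgebra F L :=
    { carrier := {c | ∀ s ∈ S, c * s ∈ S}
      one_mem' := fun s hs => by rwa [one_mul]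
      mul_mem' := fun {a b} ha hb s hs => by rw [mul_assoc]; exact ha _ (hb s hs)
      zero_mem' := fun s _ => by rw [zero_mul]; exact S.zero_mem
      add_mem' := fun {a b} ha hb s hs => by rw [add_mul]; exact S.add_mem (ha s hs) (hb s hs)
      algebraMap_mem' := fun a s hs => by rw [← Algebra.smul_def]; exact S.smul_mem a hs }
  haveI := Subalgebra.isSimpleOrder_of_finrank_prime F L hr
  rcases IsSimpleOrder.eq_bot_or_eq_top T with h | h
  · exact Algebra.mem_bot.1 (h ▸ (show c ∈ T from hc))
  · obtain ⟨s, hs, hs0⟩ := S.exists_mem_ne_zero_of_ne_bot h0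
    refine absurd (eq_top_iff.2 fun x _ => ?_) h1
    have := (show x / s ∈ T by rw [h]; exact Algebra.mem_top) s hs
    rwa [div_mul_cancel₀ _ hs0] at this

variable {F}

/-- Every functional is a fixed one applied to a linear form over the bigger field. -/
theorem exists_form {V : Type*} [AddCommGroup V] [Module F V] [Module L V] [IsScalarTower F L V]
    [FiniteDimensional L V] (ε : Module.Dual F L) (hε : ε ≠ 0) (φ : Module.Dual F V) :
    ∃ μ : Module.Dual L V, ∀ v, φ v = ε (μ v) := by
  haveI : FiniteDimensional F V := Module.Finite.trans L V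
  let f : Module.Dual L V →ₗ[F] Module.Dual F V :=
    { toFun := fun μ => ε ∘ₗ μ.restrictScalars F
      map_add' := fun μ ν => by ext v; simp
      map_smul' := fun a μ => by ext v; simp }
  have hinj : Function.Injective f := (injective_iff_map_eq_zero f).2 fun μ h => by
    ext v
    by_contra hv
    refine hε (LinearMap.ext fun x => ?_)
    have := LinearMap.congr_fun h ((x / μ v) • v)
    simpa [f, div_mul_cancel₀ x hv] using this
  have hdim : Module.finrank F (Module.Dual L V) = Module.finrank F (Module.Dual F V) := by
    rw [Subspace.dual_finrank_eq, ← Module.finrank_mul_finrank F L (Module.Dual L V), Subspace.dual_finrank_eq,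
      Module.finrank_mul_finrank]
  haveI : FiniteDimensional F (Module.Dual L V) := Module.Finite.trans L _
  obtain ⟨μ, hμ⟩ := (LinearMap.injective_iff_surjective_of_finrank_eq_finrank hdim).1 hinj φ
  exact ⟨μ, fun v => (LinearMap.congr_fun hμ v).symm⟩

/-- A functional vanishing on a subspace with prescribed value outside. -/
theorem exists_form_eq {V : Type*} [AddCommGroup V] [Module L V] {P : Submodule L V} {x : V} (h : x ∉ P) (c : L) :
    ∃ μ : Module.Dual L V, (∀ v ∈ P, μ v = 0) ∧ μ x = c := by
  obtain ⟨f, hfx, hfP⟩ := Submodule.exists_dual_map_eq_bot_of_notMem h inferInstance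
  refine ⟨(c / f x) • f, fun v hv => ?_, by simp [div_mul_cancel₀, hfx]⟩
  have : f v = 0 := (Submodule.mem_bot L).1 (hfP ▸ Submodule.mem_map_of_mem hv)
  simp [this]

end CfsgLib.FieldMax
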