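import Cfsg.Agent.Lib.FieldMax.SympLines
import Cfsg.Agent.Lib.FieldMax.Meet

/-!
Touching lines in a symplectic space give all transvections with one centre.
-/

set_option autoImplicit false

namespace CfsgLib.FieldMax

variable {F L V : Type*} [Field F] [Field L] [Algebra F L] [AddCommGroup V] [Module F V] [Module L V]
  [IsScalarTower F L V]

/-- The functional of a vector for the trace form. -/
abbrev fv (ε : Module.Dual F L) (β : LinearMap.BilinForm L V) (u : V) : Module.Dual F V :=
  ε ∘ₗ (β.flip u).restrictScalars F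

/-- An element of the radical of the stabiliser of a point. -/
def heisD (ε : Module.Dual F L) (β : LinearMap.BilinForm L V) (e p : V) (c : F) : Module.End F V :=
  (fv ε β e).smulRight p + (fv ε β p).smulRight e + c • (fv ε β e).smulRight e

/-- All transvections with centre `e` are in the group. -/
def FullAt (ε : Module.Dual F L) (β : LinearMap.BilinForm L V) (M : Subgroup (Module.End F V)ˣ) (e : V) : Prop :=
  ∀ k : F, Mem M (k • (fv ε β e).smulRight e)

variable {M : Subgroup (Module.End F V)ˣ} {β : LinearMap.BilinForm L V} {ε : Module.Dual F L}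

theorem fv_apply (u v : V) : fv ε β u v = ε (β v u) := rfl

theorem eps_smul (c : F) (x : L) : ε (c • x) = c * ε x := by rw [map_smul, smul_eq_mul]

theorem heisD_apply (e p v : V) (c : F) :
    heisD ε β e p c v = ε (β v e) • p + ε (β v p) • e + (c * ε (β v e)) • e := by
  simp [heisD, smul_smul]

theorem form_smul_left (c : F) (x y : V) : ε (β (c • x) y) = c * ε (β x y) := by
  rw [LinearMap.map_smul_of_tower, LinearMap.smul_apply, eps_smul]

theorem form_smul_right (c : F) (x y : V) : ε (β x (c • y)) = c * ε (β x y) := by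
  rw [LinearMap.map_smul_of_tower, eps_smul]

namespace SExt

variable (hS : SExt β ε M)

include hS

theorem fskew (u v : V) : ε (β u v) = -ε (β v u) := by rw [hS.skew u v, map_neg]

/-- Conjugation by a member of the group. -/
theorem heisD_conj {g : (Module.End F V)ˣ} (hg : g ∈ M) {e p : V} {c : F} (h : Mem M (heisD ε β e p c)) :
    Mem M (heisD ε β ((g : Module.End F V) e) ((g : Module.End F V) p) c) := by
  convert h.conj hg using 1
  ext v
  have e1 : ∀ u, ε (β v ((g : Module.End F V) u)) = ε (β (((g⁻¹ : (Module.End F V)ˣ) : Module.End F V) v) u) := fun u => by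
    conv_lhs => rw [← apply_inv_apply g v]
    exact hS.iso g hg _ u
  rw [Module.End.mul_apply, Module.End.mul_apply, heisD_apply, heisD_apply, e1, e1]
  simp

theorem conj_skew {g : (Module.End F V)ˣ} (hg : g ∈ M) (k : L) (a : V) (x y : V) :
    ε (β (((g : Module.End F V) * rt β k a * ((g⁻¹ : (Module.End F V)ˣ) : Module.End F V) : Module.End F V) x) y) =
      -ε (β x (((g : Module.End F V) * rt β k a * ((g⁻¹ : (Module.End F V)ˣ) : Module.End F V) : Module.End F V) y)) := by
  simp only [Module.End.mul_apply]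
  conv_lhs => rw [← apply_inv_apply g y, hS.iso g hg]
  conv_rhs => rw [← apply_inv_apply g x, hS.iso g hg]
  simp only [inv_apply_apply, rt_apply, map_smul, LinearMap.smul_apply, smul_eq_mul, ← map_neg]
  rw [hS.skew a]
  congr 1
  ring

/-- A radical element moves along the points of the perp. -/
theorem heis_step {e p q : V} {c : F} (h : Mem M (heisD ε β e p c)) (hpe : β p e = 0) (hqe : β q e = 0)
    (hqp : β q p ≠ 0) : Mem M (heisD ε β e q (ε (β q p))) := by
  obtain ⟨x, hx, ex⟩ := h
  set C : Module.End F V := rt β (β q p)⁻¹ q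
  have hC : Mem M C := hS.root _ _
  set E := heisD ε β e q (ε (β q p))
  have hee : ε (β e e) = 0 := by rw [hS.self, map_zero]
  have hCe : ∀ v, β (C v) e = 0 := fun v => by simp [C, hqe]
  have hCq : ∀ v, β (C v) q = 0 := fun v => by simp [C, hS.self]
  have key : (C + E) * (x : Module.End F V) = (x : Module.End F V) * C := by
    rw [ex, mul_add, mul_one, add_mul, add_mul, one_mul]
    have hz : E + (C * heisD ε β e p c + E * heisD ε β e p c) = heisD ε β e p c * C := by
      ext v
      have hDe : ε (β (heisD ε β e p c v) e) = 0 := by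
        rw [heisD_apply]
        simp only [map_add, LinearMap.add_apply, form_smul_left, hee, hpe, map_zero, mul_zero, add_zero]
      have hDq : ε (β (heisD ε β e p c v) q) = ε (β v e) * ε (β p q) := by
        rw [heisD_apply]
        simp only [map_add, LinearMap.add_apply, form_smul_left, hS.zero_symm hqe, map_zero, mul_zero, add_zero]
      have hCp : ε (β (C v) p) = ε (β v q) := by
        congr 1
        simp only [C, rt_apply, map_smul, LinearMap.smul_apply, smul_eq_mul]
        field_simp
      have hCD : C (heisD ε β e p c v) = -(ε (β v e)) • q := by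
        rw [show C (heisD ε β e p c v) = ((β q p)⁻¹ * β (heisD ε β e p c v) q) • q from rfl]
        have : β (heisD ε β e p c v) q = ε (β v e) • β p q := by
          rw [heisD_apply]
          simp [LinearMap.map_smul_of_tower, hS.zero_symm hqe]
        rw [this, mul_smul_comm, smul_assoc, hS.skew p q, mul_neg, inv_mul_cancel₀ hqp, neg_smul, one_smul,
          smul_neg, neg_smul]
      simp only [LinearMap.add_apply, Module.End.mul_apply, E, heisD_apply e q, hCD, hDe, hDq, heisD_apply e p (C v),
        hCe, hCp, hS.fskew p q, map_zero]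
      module
    rw [← hz]
    abel
  have hconj : Mem M (C + E) := by
    have := hC.conj hx
    rwa [← key, mul_assoc, Units.mul_inv, mul_one] at this
  convert hconj.add (hC.neg (hS.rt_mul_rt (hS.self q))) ?_ using 1
  · abel
  · rw [mul_neg, add_mul, show C * C = 0 from hS.rt_mul_rt (hS.self q), zero_add, neg_eq_zero]
    ext v
    simp only [Module.End.mul_apply, E, heisD_apply, hCe, hCq, map_zero, mul_zero, zero_smul, add_zero,
      LinearMap.zero_apply]

variable [FiniteDimensional F L] [FiniteDimensional L V]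

/-- A radical element gives every transvection with its centre. -/
theorem full_of_heis [Fintype F] {e p : V} {c : F} (h : Mem M (heisD ε β e p c)) (hpe : β p e = 0)
    (hp : p ∉ L ∙ e) : FullAt ε β M e := by
  classical
  intro l
  obtain ⟨μ, hμ, hμp⟩ := exists_form_eq hp (-1)
  obtain ⟨q₀, hq₀⟩ := hS.exists_rep μ
  have hq₀e : β q₀ e = 0 := hS.zero_symm (by rw [hq₀, hμ _ (Submodule.mem_span_singleton_self e)])
  have hq₀p : β q₀ p = 1 := by rw [hS.skew, hq₀, hμp, neg_neg]
  obtain ⟨s, hs⟩ : ∃ s, ε s = l := by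
    obtain ⟨t, ht⟩ := DFunLike.ne_iff.1 hS.eps
    exact ⟨(l / ε t) • t, by rw [eps_smul, div_mul_cancel₀ _ ht]⟩
  obtain ⟨x, hx0, hxs⟩ : ∃ x : L, x ≠ 0 ∧ x ≠ s := by
    haveI : Finite L := Module.finite_of_finite F
    letI := Fintype.ofFinite L
    by_contra hcon
    push Not at hcon
    have hsub : (Finset.univ : Finset L) ⊆ {0, s} := fun t _ => by
      by_cases h0 : t = 0
      · simp [h0]
      · simp [hcon t h0]
    have h5 := (Finset.card_le_card hsub).trans Finset.card_le_two
    rw [Finset.card_univ, ← Nat.card_eq_fintype_card, Module.natCard_eq_pow_finrank (K := F) (V := L)] at h5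
    have h6 : 2 ^ 2 ≤ Nat.card F ^ Module.finrank F L :=
      (Nat.pow_le_pow_left Finite.one_lt_card 2).trans (Nat.pow_le_pow_right Nat.card_pos hS.prime.two_le)
    omega
  set q := x • q₀ + (s - x) • p
  have hqe : β q e = 0 := by simp [q, hq₀e, hpe]
  have hqp : β q p = x := by simp [q, hq₀p, hS.self]
  have hqq : β q q₀ = -(s - x) := by simp [q, hS.self, hS.skew p q₀, hq₀p]
  have h1 := hS.heis_step h hpe hqe (by rw [hqp]; exact hx0)
  have h2 := hS.heis_step (hS.heis_step h hpe hq₀e (by rw [hq₀p]; exact one_ne_zero)) hq₀e hqe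
    (by rw [hqq]; exact neg_ne_zero.2 (sub_ne_zero.2 hxs.symm))
  have hee : ε (β e e) = 0 := by rw [hS.self, map_zero]
  have hHH : ∀ c c' : F, heisD ε β e q c * heisD ε β e q c' = 0 := fun c c' => by
    ext v
    simp only [Module.End.mul_apply, heisD_apply, map_add, LinearMap.add_apply, form_smul_left, hee, hqe, hS.self q,
      hS.zero_symm hqe, map_zero, mul_zero, add_zero, zero_smul, LinearMap.zero_apply]
  convert h1.add (h2.neg (hHH _ _)) (by rw [mul_neg, hHH, neg_zero]) using 1
  ext v
  simp only [LinearMap.add_apply, LinearMap.neg_apply, LinearMap.smul_apply, LinearMap.smulRight_apply, fv_apply,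
    heisD_apply, hqp, hqq, map_neg, map_sub, hs]
  module

/-- Touching lines give a full point. -/
theorem full_of_touching [Fintype F] {g : (Module.End F V)ˣ} (hg : g ∈ M) {a : V} (ha : a ≠ 0)
    (hne : (line F L a).map (g : Module.End F V) ≠ line F L a)
    (hk : Module.finrank F (line F L a ⊓ (line F L a).map (g : Module.End F V) : Submodule F V) + 1 =
      Module.finrank F L)
    (h4 : 3 ≤ Module.finrank F L ∨ 3 ≤ Module.finrank L V) : ∃ e : V, e ≠ 0 ∧ FullAt ε β M e := by
  haveI : FiniteDimensional F V := Module.Finite.trans L V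
  have hr := hS.prime.two_le
  set A := line F L a with hA
  set B := A.map (g : Module.End F V) with hB
  set Z := A ⊓ B with hZ
  obtain ⟨w, hwB, hwZ, hBw⟩ := exists_between (inf_le_right : Z ≤ B) (by rw [finrank_map_line g ha]; exact hk)
  obtain ⟨w', hwA', hwZ', hAw⟩ := exists_between (inf_le_left : Z ≤ A) (by rw [hA, finrank_line ha]; exact hk)
  have hwA : w ∉ L ∙ a := fun h => hwZ ⟨h, hwB⟩
  set gi := ((g⁻¹ : (Module.End F V)ˣ) : Module.End F V) with hgi
  set C : L → Module.End F V := fun k => (g : Module.End F V) * rt β k a * gi with hC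
  have hCM : ∀ k, Mem M (C k) := fun k => (hS.root k a).conj hg
  have hCv : ∀ k v, C k v = (g : Module.End F V) ((k * β (gi v) a) • a) := fun _ _ => rfl
  have hCB : ∀ k v, C k v ∈ B := fun k v => by rw [hCv]; exact Submodule.mem_map_of_mem (smul_mem_line a _)
  have hCsk : ∀ k x y, ε (β (C k x) y) = -ε (β x (C k y)) := fun k x y => hS.conj_skew hg k a x y
  have hiso : ∀ u ∈ B, ∀ v ∈ B, ε (β u v) = 0 := by
    rintro _ ⟨u, hu, rfl⟩ _ ⟨v, hv, rfl⟩
    obtain ⟨s, rfl⟩ := mem_line.1 hu
    obtain ⟨t, rfl⟩ := mem_line.1 hv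
    rw [hS.iso g hg]
    simp [hS.self]
  have hperp : ∀ v, (∀ b ∈ B, ε (β v b) = 0) → β (gi v) a = 0 := by
    intro v hv
    by_contra hne'
    refine hS.eps (LinearMap.ext fun x => ?_)
    have h2 := hS.iso g hg (gi v) ((x / β (gi v) a) • a)
    rw [hgi, apply_inv_apply, hv _ (Submodule.mem_map_of_mem (smul_mem_line a _)), map_smul, smul_eq_mul, ← hgi,
      div_mul_cancel₀ _ hne'] at h2
    simpa using h2.symm
  have hkill : ∀ k v, (∀ b ∈ B, ε (β v b) = 0) → C k v = 0 := fun k v hv => by
    rw [hCv, hperp v hv, mul_zero, zero_smul, map_zero]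
  have hBdec : ∀ b ∈ B, ∃ z ∈ Z, ∃ c : F, b = z + c • w := fun b hb => by
    rw [hBw, Submodule.mem_sup] at hb
    obtain ⟨p, hp, q, hq, rfl⟩ := hb
    obtain ⟨c, rfl⟩ := Submodule.mem_span_singleton.1 hq
    exact ⟨p, hp, c, rfl⟩
  have hAA : ∀ u ∈ A, ∀ v ∈ A, β u v = 0 := fun u hu v hv => by
    obtain ⟨s, rfl⟩ := mem_line.1 hu
    obtain ⟨t, rfl⟩ := mem_line.1 hv
    simp [hS.self]
  have hCC : ∀ k k', C k * C k' = 0 := fun k k' => LinearMap.ext fun v =>
    hkill k _ fun b hb => hiso _ (hCB k' v) b hb
  -- the difference of a conjugate by a root element of the second line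
  have hdiff : ∀ k {X : Module.End F V}, Mem M X → X * X = 0 →
      Mem M ((C k * X - X * C k - C k * X * C k) * (1 - X)) := by
    intro k X hX hX2
    obtain ⟨y, hy, ey⟩ := hCM k
    obtain ⟨x, hx, ex⟩ := hX
    obtain ⟨x', hx', ex'⟩ := (Mem.neg ⟨x, hx, ex⟩ hX2 : Mem M (-X))
    have hinv : ((y⁻¹ : (Module.End F V)ˣ) : Module.End F V) = 1 - C k := by
      calc ((y⁻¹ : (Module.End F V)ˣ) : Module.End F V)
          = (1 - C k) * (y : Module.End F V) * ((y⁻¹ : (Module.End F V)ˣ) : Module.End F V) := by
            rw [ey, mul_add, mul_one, sub_mul, one_mul, hCC, sub_zero, sub_add_cancel, one_mul]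
        _ = 1 - C k := by rw [mul_assoc, Units.mul_inv, mul_one]
    refine ⟨y * x * y⁻¹ * x', mul_mem (mul_mem (mul_mem hy hx) (inv_mem hy)) hx', ?_⟩
    simp only [Units.val_mul, ey, hinv, ex, ex', add_mul, mul_add, sub_mul, mul_sub, one_mul, mul_one, mul_neg,
      neg_mul, ← mul_assoc, hCC, zero_mul]
    simp only [mul_assoc, hX2, mul_zero, sub_zero, neg_zero, add_zero]
    abel
  by_cases hwa : β w a = 0
  · -- the lines are perpendicular
    have hBA : ∀ v ∈ A, ∀ b ∈ B, β v b = 0 := fun v hv b hb => by
      obtain ⟨z, hz, c, rfl⟩ := hBdec b hb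
      obtain ⟨s, rfl⟩ := mem_line.1 hv
      simp [LinearMap.map_smul_of_tower, hS.zero_symm hwa, hAA a (self_mem_line a) z hz.1]
    obtain ⟨μ, hμ, hμw⟩ := exists_form_eq hwA (-1)
    obtain ⟨b, hb⟩ := hS.exists_rep μ
    have hab : β a b = 0 := by rw [hb, hμ _ (Submodule.mem_span_singleton_self a)]
    have hbw : β b w = 1 := by rw [hS.skew, hb, hμw, neg_neg]
    have hbZ : ∀ z ∈ Z, β b z = 0 := fun z hz => by
      obtain ⟨s, rfl⟩ := mem_line.1 hz.1
      simp [hS.zero_symm hab]
    obtain ⟨t₀, ht₀⟩ : ∃ t, ε t = 1 := by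
      obtain ⟨t, ht⟩ := DFunLike.ne_iff.1 hS.eps
      exact ⟨(ε t)⁻¹ • t, by rw [eps_smul, inv_mul_cancel₀ ht]⟩
    obtain ⟨w₀, hw₀, hgw₀⟩ := hwB
    obtain ⟨sw, rfl⟩ := mem_line.1 hw₀
    have hwB' : w ∈ B := ⟨_, hw₀, hgw₀⟩
    have hne₀ : β (gi (t₀ • b)) a ≠ 0 := fun h0 => by
      have h1 : ε (β (t₀ • b) w) = 0 := by
        rw [← hgw₀, ← apply_inv_apply g (t₀ • b), hS.iso g hg, map_smul, ← hgi, h0, smul_zero, map_zero]
      rw [map_smul, LinearMap.smul_apply, hbw, smul_eq_mul, mul_one, ht₀] at h1
      exact one_ne_zero h1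
    set k := sw / β (gi (t₀ • b)) a
    have hCt : ∀ t : L, C k (t • b) = ε t • w := fun t => by
      rw [show t • b = (t - ε t • t₀) • b + ε t • (t₀ • b) by rw [sub_smul, smul_assoc, sub_add_cancel], map_add,
        hkill k ((t - ε t • t₀) • b) (fun v hv => ?_), zero_add, map_smul]
      · congr 1
        rw [hCv, div_mul_cancel₀ _ hne₀, hgw₀]
      · obtain ⟨z, hz, c, rfl⟩ := hBdec v hv
        have e0 : ε (t - ε t • t₀) = 0 := by rw [map_sub, eps_smul, ht₀, mul_one, sub_self]
        simp [hbZ z hz, hbw, LinearMap.map_smul_of_tower, e0]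
    have hCA : ∀ v ∈ A, C k v = 0 := fun v hv => hkill k v fun b' hb' => by rw [hBA v hv b' hb', map_zero]
    have hXv : ∀ v, (sieg (F := F) β a b) v = β v a • b + β v b • a := sieg_apply a b
    have hCX : ∀ v, C k ((sieg (F := F) β a b) v) = ε (β v a) • w := fun v => by
      rw [hXv, map_add, hCt, hCA _ (smul_mem_line a _), add_zero]
    have hCa : ∀ v, β (C k v) a = 0 := fun v => hS.zero_symm (hBA a (self_mem_line a) _ (hCB k v))
    have hXC : ∀ v, (sieg (F := F) β a b) (C k v) = -(ε (β v w) • a) := fun v => by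
      obtain ⟨z, hz, c, hzc⟩ := hBdec _ (hCB k v)
      have hcb : β (C k v) b = -(c • (1 : L)) := by
        rw [hzc, map_add, LinearMap.add_apply, LinearMap.map_smul_of_tower, LinearMap.smul_apply,
          hS.zero_symm (hbZ z hz), zero_add, hS.skew w b, hbw, smul_neg]
      have hc : c = ε (β v w) := by
        have h1 := hCsk k v (t₀ • b)
        rw [hCt, ht₀, one_smul, map_smul, hcb, smul_eq_mul, mul_neg, mul_smul_comm, mul_one, map_neg, eps_smul, ht₀,
          mul_one] at h1
        exact neg_injective h1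
      rw [hXv, hCa, zero_smul, zero_add, hcb, hc, neg_smul, smul_assoc, one_smul]
    have hD : ∀ v, (C k * sieg β a b - sieg β a b * C k - C k * sieg β a b * C k : Module.End F V) v = heisD ε β a w 0 v := fun v => by
      simp only [LinearMap.sub_apply, Module.End.mul_apply, hCX, hXC, map_neg, map_smul, hCA a (self_mem_line a),
        heisD_apply, zero_mul, zero_smul, smul_zero, neg_zero, sub_zero, add_zero, sub_neg_eq_add]
    refine ⟨a, ha, hS.full_of_heis (p := w) (c := -1) ?_ hwa hwA⟩
    have hba := hS.zero_symm hab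
    have hX2 : sieg (F := F) β a b * sieg β a b = 0 := by
      ext v; simp [Module.End.mul_apply, hab, hba, hS.self]
    convert hdiff k (hS.mem_sieg hab) hX2 using 1
    ext v
    have h1 : ε (β ((sieg (F := F) β a b) v) a) = 0 := by simp [hba, hS.self]
    have h2 : ε (β ((sieg (F := F) β a b) v) w) = ε (β v a) := by simp [hXv, hbw, hS.zero_symm hwa]
    rw [Module.End.mul_apply, hD, LinearMap.sub_apply, Module.End.one_apply, map_sub, heisD_apply, heisD_apply,
      heisD_apply, h1, h2]
    module
  · -- the lines are not perpendicular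
    have hfZ : ∀ z ∈ Z, ε (β z w) = 0 := fun z hz => hiso z hz.2 w hwB
    set ρ := ε (β w' w)
    have hρ : ρ ≠ 0 := fun h0 => by
      have hall : ∀ v ∈ A, ε (β v w) = 0 := fun v hv => by
        rw [hAw, Submodule.mem_sup] at hv
        obtain ⟨p, hp, q, hq, rfl⟩ := hv
        obtain ⟨c, rfl⟩ := Submodule.mem_span_singleton.1 hq
        rw [map_add, LinearMap.add_apply, map_add, form_smul_left, hfZ p hp, zero_add]
        exact mul_eq_zero.2 (Or.inr h0)
      refine hS.eps (LinearMap.ext fun x => ?_)
      have := hall _ (smul_mem_line a (x / β a w))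
      rw [map_smul, LinearMap.smul_apply, smul_eq_mul, div_mul_cancel₀ _ (fun e => hwa (hS.zero_symm e))] at this
      simpa using this
    set η := ρ⁻¹ • β a w
    -- the action on the first line
    have hCw : ∀ z' ∈ Z, z' ≠ 0 → ∃ k, (∀ s : L, C k (s • a) = ε (s * η) • z') ∧
        ∀ v, ∃ z ∈ Z, C k v = z + (ρ⁻¹ * -ε (β v z')) • -w := by
      intro z' hz' hz'0
      obtain ⟨_, hs', rfl⟩ := hz'.2
      obtain ⟨s', rfl⟩ := mem_line.1 hs'
      have hn : β (gi w') a ≠ 0 := fun h0 => hρ (by
        obtain ⟨_, hw₁, hgw⟩ := hwB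
        obtain ⟨sw, rfl⟩ := mem_line.1 hw₁
        show ε (β w' w) = 0
        rw [← hgw, ← apply_inv_apply g w', hS.iso g hg, map_smul, ← hgi, h0, smul_zero, map_zero])
      refine ⟨s' / β (gi w') a, fun s => ?_, fun v => ?_⟩
      · have hs := smul_mem_line (F := F) a s
        rw [← hA, hAw, Submodule.mem_sup] at hs
        obtain ⟨p, hp, q, hq, hpq⟩ := hs
        obtain ⟨c, rfl⟩ := Submodule.mem_span_singleton.1 hq
        have hc : ε (s * η) = c := by
          show ε (s * ρ⁻¹ • β a w) = c
          rw [mul_smul_comm, eps_smul, ← smul_eq_mul s, ← LinearMap.smul_apply, ← map_smul, ← hpq, map_add,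
            LinearMap.add_apply, map_add, form_smul_left, hfZ p hp, zero_add, mul_comm c, ← mul_assoc,
            inv_mul_cancel₀ hρ, one_mul]
        rw [hc, ← hpq, map_add, map_smul, hkill _ p (fun b hb => hiso p hp.2 b hb), zero_add, hCv,
          div_mul_cancel₀ _ hn]
      · obtain ⟨z, hz, c, hzc⟩ := hBdec _ (hCB (s' / β (gi w') a) v)
        refine ⟨z, hz, ?_⟩
        have h1 := hCsk (s' / β (gi w') a) v w'
        rw [hzc, hCv _ w', div_mul_cancel₀ _ hn, map_add, LinearMap.add_apply, map_add, form_smul_left,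
          hAA z hz.1 w' hwA', map_zero, zero_add, hS.fskew w w'] at h1
        rw [hzc, ← h1]
        show z + c • w = z + (ρ⁻¹ * (c * -ρ)) • -w
        rw [mul_neg, mul_neg, neg_smul, smul_neg, neg_neg, ← mul_assoc, mul_comm ρ⁻¹, mul_assoc,
          inv_mul_cancel₀ hρ, mul_one]
    have hηne : η ≠ 0 := smul_ne_zero (inv_ne_zero hρ) (fun e => hwa (hS.zero_symm e))
    by_cases hdim : 3 ≤ Module.finrank L V
    · obtain ⟨z', hz', hz'0⟩ := Z.exists_mem_ne_zero_of_ne_bot fun e => by rw [e, finrank_bot] at hk; omega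
      obtain ⟨k, hkA, hkv⟩ := hCw z' hz' hz'0
      obtain ⟨y, hy⟩ : ∃ y, y ∉ Submodule.span L {a, w} := by
        by_contra hcon
        push Not at hcon
        classical
        have h2 := finrank_span_le_card (R := L) ({a, w} : Set V)
        rw [show Submodule.span L {a, w} = ⊤ from eq_top_iff.2 fun v _ => hcon v, finrank_top] at h2
        have : ({a, w} : Set V).toFinset.card ≤ 2 := by
          rw [Set.toFinset_insert, Set.toFinset_singleton]; exact Finset.card_le_two
        omega
      obtain ⟨μ, hμ, hμy⟩ := exists_form_eq hy 1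
      obtain ⟨b, hb⟩ := hS.exists_rep μ
      have hab : β a b = 0 := by rw [hb, hμ _ (Submodule.subset_span (by simp))]
      have hba := hS.zero_symm hab
      have hwb : β w b = 0 := by rw [hb, hμ _ (Submodule.subset_span (by simp))]
      have hbA : b ∉ L ∙ a := fun h => by
        obtain ⟨c, hc⟩ := Submodule.mem_span_singleton.1 h
        rw [← hc] at hwb
        have hc0 : c = 0 := by simpa [hwa] using hwb
        have := hb y
        rw [hμy, ← hc, hc0, zero_smul, map_zero] at this
        exact zero_ne_one this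
      have hbB : ∀ x ∈ B, β x b = 0 := fun x hx => by
        obtain ⟨z, hz, c, rfl⟩ := hBdec x hx
        obtain ⟨t, rfl⟩ := mem_line.1 hz.1
        simp [LinearMap.map_smul_of_tower, hwb, hab]
      have hkb : ∀ t : L, C k (t • b) = 0 := fun t => hkill k _ fun x hx => by
        rw [map_smul, LinearMap.smul_apply, hS.zero_symm (hbB x hx), smul_zero, map_zero]
      have hXv : ∀ v, (sieg (F := F) β a b) v = β v a • b + β v b • a := sieg_apply a b
      have hX2 : sieg (F := F) β a b * sieg β a b = 0 := by
        ext v; simp [Module.End.mul_apply, hab, hba, hS.self]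
      obtain ⟨t', ht'⟩ := mem_line.1 hz'.1
      refine ⟨z', hz'0, hS.full_of_heis (p := η • b) (c := 0) ?_ (by rw [← ht']; simp [hba]) fun h => hbA ?_⟩
      · convert hdiff k (hS.mem_sieg hab) hX2 using 1
        have e1 : ∀ v, (C k * sieg β a b - sieg β a b * C k - C k * sieg β a b * C k : Module.End F V) v =
            heisD ε β z' (η • b) 0 v := fun v => by
          obtain ⟨z, hz, hzv⟩ := hkv v
          have hCb : β (C k v) b = 0 := hbB _ (hCB k v)
          have hCa : β (C k v) a = (ρ⁻¹ * ε (β v z')) • β w a := by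
            rw [hzv, map_add, LinearMap.add_apply, hAA z hz.1 a (self_mem_line a), zero_add,
              LinearMap.map_smul_of_tower, LinearMap.smul_apply, map_neg, LinearMap.neg_apply, mul_neg, neg_smul_neg]
          simp only [LinearMap.sub_apply, Module.End.mul_apply, hXv, map_add, hkb, hkA, zero_add, hCb, zero_smul,
            map_zero, add_zero, hCa, sub_zero, heisD_apply, mul_smul, zero_mul, map_smul, smul_eq_mul]
          rw [hS.skew w a, show (ρ⁻¹ • ε (β v z') • (-β a w)) = -(ε (β v z') • η) by
            rw [smul_comm, smul_neg, smul_neg]]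
          rw [neg_smul, sub_neg_eq_add, smul_assoc, mul_comm (β v b) η]
          module
        ext v
        rw [Module.End.mul_apply, e1, LinearMap.sub_apply, Module.End.one_apply]
        have h1 : ε (β ((sieg (F := F) β a b) v) z') = 0 := by rw [← ht']; simp [hba, hS.self]
        have h2 : ε (β ((sieg (F := F) β a b) v) (η • b)) = 0 := by simp [hab, hS.self]
        rw [map_sub, heisD_apply, heisD_apply, h1, h2]
        simp
      · exact (Submodule.smul_mem_iff _ hηne).1 ((Submodule.span_singleton_le_iff_mem z' (L ∙ a)).2 hz'.1 h)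
    · -- a plane over the extension field
      have hr3 : 3 ≤ Module.finrank F L := h4.resolve_right hdim
      obtain ⟨z', hz', hz'0⟩ := Z.exists_mem_ne_zero_of_ne_bot fun e => by rw [e, finrank_bot] at hk; omega
      have hraw : ∀ z' ∈ Z, z' ≠ 0 → ∀ s : L, Mem M (heisD ε β z' (s • a) (ε (s * η))) := by
        intro z' hz' hz'0 s
        obtain ⟨k, hkA, hkv⟩ := hCw z' hz' hz'0
        have hX2 : rt (F := F) β (s / η) a * rt β (s / η) a = 0 := hS.rt_mul_rt (hS.self a)
        convert hdiff k (hS.root (s / η) a) hX2 using 1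
        have hXC : ∀ v, (rt β (s / η) a : Module.End F V) (C k v) = -(ε (β v z')) • s • a := fun v => by
          obtain ⟨z, hz, hzv⟩ := hkv v
          rw [rt_apply, show β (C k v) a = (ρ⁻¹ * ε (β v z')) • β w a by
            rw [hzv, map_add, LinearMap.add_apply, hAA z hz.1 a (self_mem_line a), zero_add,
              LinearMap.map_smul_of_tower, LinearMap.smul_apply, map_neg, LinearMap.neg_apply, mul_neg, neg_smul_neg]]
          rw [hS.skew w a, show (ρ⁻¹ * ε (β v z')) • (-β a w) = -(ε (β v z') • η) by
            rw [mul_smul, smul_comm, smul_neg, smul_neg], mul_neg, mul_smul_comm, div_mul_cancel₀ _ hηne, neg_smul,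
            neg_smul, smul_assoc]
        have hXA : ∀ v, ε (β ((rt β (s / η) a : Module.End F V) v) z') = 0 := fun v => by
          rw [rt_apply, hAA _ (smul_mem_line a _) z' hz'.1, map_zero]
        have e1 : ∀ v, (C k * rt β (s / η) a - rt β (s / η) a * C k - C k * rt β (s / η) a * C k : Module.End F V) v =
            heisD ε β z' (s • a) (ε (s * η)) v := fun v => by
          simp only [LinearMap.sub_apply, Module.End.mul_apply, hXC, map_neg, neg_smul, map_smul, hkA, heisD_apply,
            rt_apply]
          rw [show s / η * β v a * η = s * β v a by field_simp, smul_eq_mul]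
          module
        ext v
        rw [Module.End.mul_apply, e1, LinearMap.sub_apply, Module.End.one_apply, map_sub, heisD_apply, heisD_apply,
          hXA, rt_apply, hAA _ (smul_mem_line a _) _ (smul_mem_line a s), map_zero]
        simp
      obtain ⟨sz, hsz⟩ := mem_line.1 hz'.1
      obtain ⟨su, hsu⟩ := mem_line.1 hwA'
      -- a scalar putting both vectors on the hyperplane
      obtain ⟨θ, hθ0, hθz, hθu⟩ : ∃ θ : L, θ ≠ 0 ∧ ε (θ * sz) = 0 ∧ ε (θ * su) = 0 := by
        let f : L →ₗ[F] F × F := (ε ∘ₗ LinearMap.mulRight F sz).prod (ε ∘ₗ LinearMap.mulRight F su)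
        obtain ⟨θ, hθ, hθ0⟩ := (LinearMap.ker f).exists_mem_ne_zero_of_ne_bot fun e => by
          have := LinearMap.finrank_le_finrank_of_injective (LinearMap.ker_eq_bot.1 e)
          rw [Module.finrank_prod, Module.finrank_self] at this
          omega
        have h := LinearMap.mem_ker.1 hθ
        simp only [f, LinearMap.prod_apply, Pi.prod, LinearMap.comp_apply, LinearMap.mulRight_apply, Prod.mk_eq_zero] at h
        exact ⟨θ, hθ0, Prod.ext_iff.1 h⟩
      have hZmem : ∀ t, ε (t * η) = 0 → t • a ∈ Z := fun t ht => by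
        obtain ⟨k, hkA, -⟩ := hCw z' hz' hz'0
        have ht' := smul_mem_line (F := F) a t
        rw [← hA, hAw, Submodule.mem_sup] at ht'
        obtain ⟨p, hp, q, hq, hpq⟩ := ht'
        obtain ⟨c, rfl⟩ := Submodule.mem_span_singleton.1 hq
        have h1 : ε (β (t • a) w) = c * ρ := by
          rw [← hpq, map_add, LinearMap.add_apply, map_add, form_smul_left, hfZ p hp, zero_add]
        have h2 : ε (t * η) = ρ⁻¹ * ε (β (t • a) w) := by
          show ε (t * ρ⁻¹ • β a w) = _
          rw [mul_smul_comm, eps_smul, map_smul, LinearMap.smul_apply, smul_eq_mul]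
        rw [ht, h1] at h2
        have hc : c = 0 := by
          field_simp at h2
          exact h2.symm
        rwa [← hpq, hc, zero_smul, add_zero]
      have hin : ∀ t : L, ε (θ * t) = 0 → (θ / η * t) • a ∈ Z := fun t ht => hZmem _ (by
        rwa [mul_right_comm, div_mul_cancel₀ _ hηne])
      obtain ⟨u, hu, hua, hul⟩ := hS.exists_move (a := (θ / η * sz) • a) (b := z')
        (smul_ne_zero (mul_ne_zero (div_ne_zero hθ0 hηne) fun e => hz'0 (by rw [← hsz, e, zero_smul])) ha) hz'0
      have hsz0 : sz ≠ 0 := fun e => hz'0 (by rw [← hsz, e, zero_smul])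
      have hua' : (u : Module.End F V) ((θ / η) • a) = a := by
        apply smul_right_injective V hsz0
        show sz • _ = sz • _
        rw [← hul, smul_smul, mul_comm sz, hua, hsz]
      have h0 : ∀ l : F, Mem M (heisD ε β z' (l • w') 0) := fun l => by
        have hc := hS.heisD_conj hu (hraw _ (hin sz hθz) (smul_ne_zero (mul_ne_zero (div_ne_zero hθ0 hηne) hsz0) ha)
          (θ / η * (l • su)))
        rw [hua, show ε (θ / η * (l • su) * η) = 0 by
            rw [mul_right_comm, div_mul_cancel₀ _ hηne, mul_smul_comm, eps_smul, hθu, mul_zero],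
          mul_comm (θ / η) (l • su), mul_smul, hul, hua', smul_assoc, hsu] at hc
        exact hc
      refine ⟨z', hz'0, fun l => ?_⟩
      have hee : ε (β z' z') = 0 := by rw [hS.self, map_zero]
      have hz'w : ε (β z' w') = 0 := by rw [hAA z' hz'.1 w' hwA', map_zero]
      have hw'z : ε (β w' z') = 0 := by rw [hAA w' hwA' z' hz'.1, map_zero]
      have hww : ε (β w' w') = 0 := by rw [hS.self, map_zero]
      have hHH : ∀ c c' : F, ∀ f : F, heisD ε β z' (f • w') c * heisD ε β z' (f • w') c' = 0 := fun c c' f => by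
        ext v
        simp only [Module.End.mul_apply, heisD_apply, map_add, LinearMap.add_apply, form_smul_left, form_smul_right,
          hee, hz'w, hw'z, hww, mul_zero, add_zero, zero_smul, LinearMap.zero_apply]
      have h1 := hraw z' hz' hz'0 (l • su)
      have he : ε (su * η) = 1 := by
        show ε (su * ρ⁻¹ • β a w) = 1
        rw [mul_smul_comm, eps_smul, ← smul_eq_mul su, ← LinearMap.smul_apply, ← map_smul, hsu]
        exact inv_mul_cancel₀ hρ
      rw [smul_mul_assoc, eps_smul, he, mul_one, smul_assoc, hsu] at h1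
      convert h1.add ((h0 l).neg (hHH _ _ _)) (by rw [mul_neg, hHH, neg_zero]) using 1
      ext v
      simp only [LinearMap.add_apply, LinearMap.neg_apply, LinearMap.smul_apply, LinearMap.smulRight_apply, fv_apply,
        heisD_apply]
      module

end SExt

end CfsgLib.FieldMax
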