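import Cfsg.Agent.Lib.FieldMax.Lines

/-!
Extension-field subgroups of the symplectic groups: touching lines in a group above the normaliser.
-/

set_option autoImplicit false

namespace CfsgLib.FieldMax

variable {F L V : Type*} [Field F] [Field L] [Algebra F L] [AddCommGroup V] [Module F V] [Module L V]
  [IsScalarTower F L V]

/-- The root element of a line. -/
abbrev rt (β : LinearMap.BilinForm L V) (k : L) (a : V) : Module.End F V := lin1 (k • β.flip a) a

/-- The Siegel element of two orthogonal vectors. -/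
abbrev sieg (β : LinearMap.BilinForm L V) (a b : V) : Module.End F V := lin1 (β.flip a) b + lin1 (β.flip b) a

/-- A group of isometries of a trace form containing the root elements over the extension field. -/
structure SExt (β : LinearMap.BilinForm L V) (ε : Module.Dual F L) (M : Subgroup (Module.End F V)ˣ) : Prop where
  alt : β.IsAlt
  nondeg : ∀ u, (∀ v, β u v = 0) → u = 0
  iso : ∀ g ∈ M, ∀ u v, ε (β ((g : Module.End F V) u) ((g : Module.End F V) v)) = ε (β u v)
  eps : ε ≠ 0
  root : ∀ (k : L) (a : V), Mem M (rt β k a)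
  prime : (Module.finrank F L).Prime
  pos : 0 < Module.finrank L V

variable {M : Subgroup (Module.End F V)ˣ} {β : LinearMap.BilinForm L V} {ε : Module.Dual F L}

theorem rt_apply (k : L) (a v : V) : (rt β k a : Module.End F V) v = (k * β v a) • a := rfl

theorem sieg_apply (a b v : V) : (sieg β a b : Module.End F V) v = β v a • b + β v b • a := rfl

theorem exists_unit_of_map [FiniteDimensional F V] (u : (Module.End F V)ˣ) {a : V} (ha : a ≠ 0) :
    Module.finrank F ((line F L a).map (u : Module.End F V)) = Module.finrank F L := finrank_map_line u ha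

/-- The only line over the extension field inside a touching image is the line itself. -/
theorem line_eq_of_le [FiniteDimensional F L] [FiniteDimensional F V] {g : (Module.End F V)ˣ} {a v : V} (ha : a ≠ 0)
    (hv : v ≠ 0) (hle : line F L v ≤ (line F L a).map (g : Module.End F V))
    (hZ : line F L a ⊓ (line F L a).map (g : Module.End F V) ≠ ⊥) :
    (line F L a).map (g : Module.End F V) = line F L a := by
  have e : line F L v = (line F L a).map (g : Module.End F V) :=
    Submodule.eq_of_le_of_finrank_eq hle (by rw [finrank_line hv, finrank_map_line g ha])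
  obtain ⟨z, hz, hz0⟩ := Submodule.exists_mem_ne_zero_of_ne_bot hZ
  rw [← e, ← line_eq_of_mem (e.symm ▸ hz.2 : z ∈ line F L v) hz0, line_eq_of_mem hz.1 hz0]

namespace SExt

variable (hS : SExt β ε M)

include hS

theorem skew (u v : V) : β u v = -β v u := (hS.alt.neg_eq v u).symm

theorem self (u : V) : β u u = 0 := hS.alt u

theorem zero_symm {u v : V} (h : β u v = 0) : β v u = 0 := by rw [hS.skew, h, neg_zero]

theorem nondeg_right {u : V} (h : ∀ v, β v u = 0) : u = 0 := hS.nondeg u fun v => hS.zero_symm (h v)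

theorem exists_partner {a : V} (ha : a ≠ 0) : ∃ b, β a b ≠ 0 := by
  by_contra hcon
  push Not at hcon
  exact ha (hS.nondeg a hcon)

theorem rt_mul_rt {k l : L} {x y : V} (h : β y x = 0) : (rt β k x * rt β l y : Module.End F V) = 0 := by
  ext v; simp [Module.End.mul_apply, h]

/-- The Siegel elements are in the group. -/
theorem mem_sieg {a b : V} (h : β a b = 0) : Mem M (sieg β a b) := by
  have h' := hS.zero_symm h
  have hab : β b (a + b) = 0 := by simp [h', hS.self]
  have hab' : β a (a + b) = 0 := by simp [h, hS.self]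
  convert ((hS.root 1 (a + b)).add (hS.root (-1) a) (hS.rt_mul_rt hab')).add (hS.root (-1) b) (by
    rw [add_mul, hS.rt_mul_rt hab, hS.rt_mul_rt h', add_zero]) using 1
  ext v
  simp [smul_add, add_smul]
  abel

variable [FiniteDimensional F L] [FiniteDimensional L V]

omit [FiniteDimensional F L] in
theorem exists_rep (μ : Module.Dual L V) : ∃ b, ∀ v, β v b = μ v := by
  have hinj : Function.Injective β.flip := (injective_iff_map_eq_zero _).2 fun u h =>
    hS.nondeg_right fun v => by simpa using LinearMap.congr_fun h v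
  obtain ⟨b, hb⟩ := (LinearMap.injective_iff_surjective_of_finrank_eq_finrank Subspace.dual_finrank_eq.symm).1 hinj μ
  exact ⟨b, fun v => by simpa using LinearMap.congr_fun hb v⟩

omit [FiniteDimensional F L] in
theorem two_le_dim : 2 ≤ Module.finrank L V := by
  haveI := Module.nontrivial_of_finrank_pos hS.pos
  obtain ⟨a, ha⟩ := exists_ne (0 : V)
  obtain ⟨b, hb⟩ := hS.exists_partner ha
  have hli : LinearIndependent L ![a, b] := LinearIndependent.pair_iff.2 fun c d h => by
    have h1 := congrArg (fun x => β x b) h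
    have h2 := congrArg (fun x => β a x) h
    simp [hS.self, hb] at h1 h2
    exact ⟨h1, h2⟩
  have := hli.fintype_card_le_finrank
  simpa using this

omit [FiniteDimensional F L] [FiniteDimensional L V] in
/-- The group is transitive on non-zero vectors, by maps commuting with the scalars. -/
theorem exists_move {a b : V} (ha : a ≠ 0) (hb : b ≠ 0) : ∃ u ∈ M, (u : Module.End F V) a = b ∧
    ∀ (s : L) (v : V), (u : Module.End F V) (s • v) = s • (u : Module.End F V) v := by
  have key : ∀ {a b : V}, β a b ≠ 0 → ∃ u ∈ M, (u : Module.End F V) a = b ∧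
      ∀ (s : L) (v : V), (u : Module.End F V) (s • v) = s • (u : Module.End F V) v := by
    intro a b h
    obtain ⟨u, hu, e⟩ := hS.root (β a b)⁻¹ (b - a)
    exact ⟨u, hu, by simp [e, hS.self, inv_mul_cancel₀ h], fun s v => by
      simp [e, smul_add, smul_smul, mul_left_comm, mul_sub]⟩
  obtain ⟨x, hx⟩ := hS.exists_partner ha
  obtain ⟨y, hy⟩ := hS.exists_partner hb
  obtain ⟨c, hc1, hc2⟩ : ∃ c, β a c ≠ 0 ∧ β b c ≠ 0 := by
    by_cases h1 : β b x = 0
    · by_cases h2 : β a y = 0
      · exact ⟨x + y, by simpa [h2] using hx, by simpa [h1] using hy⟩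
      · exact ⟨y, h2, hy⟩
    · exact ⟨x, hx, h1⟩
  obtain ⟨u, hu, hua, hul⟩ := key hc1
  obtain ⟨w, hw, hwc, hwl⟩ := key (show β c b ≠ 0 from fun e => hc2 (hS.zero_symm e))
  exact ⟨w * u, mul_mem hw hu, by rw [Units.val_mul, Module.End.mul_apply, hua, hwc],
    fun s v => by simp [Module.End.mul_apply, hul, hwl]⟩

/-- The intersection can be enlarged. -/
theorem exists_bigger {g : (Module.End F V)ˣ} (hg : g ∈ M) {a : V} (ha : a ≠ 0)
    (hne : (line F L a).map (g : Module.End F V) ≠ line F L a) {k : ℕ}
    (hk : Module.finrank F (line F L a ⊓ (line F L a).map (g : Module.End F V) : Submodule F V) = k)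
    (hk1 : 1 ≤ k) (hk2 : k + 2 ≤ Module.finrank F L) :
    ∃ g' ∈ M, k + 1 ≤ Module.finrank F (line F L a ⊓ (line F L a).map (g' : Module.End F V) : Submodule F V) ∧
      (line F L a).map (g' : Module.End F V) ≠ line F L a := by
  haveI : FiniteDimensional F V := Module.Finite.trans L V
  set A := line F L a with hA
  set B := A.map (g : Module.End F V) with hB
  set Z := A ⊓ B with hZ
  have hBr : Module.finrank F B = Module.finrank F L := finrank_map_line g ha
  have hZ0 : Z ≠ ⊥ := fun e => by rw [e, finrank_bot] at hk; omega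
  let S : Submodule F L := Z.comap ((LinearMap.toSpanSingleton L V a).restrictScalars F)
  obtain ⟨z, hz, hz0⟩ := Z.exists_mem_ne_zero_of_ne_bot hZ0
  obtain ⟨k₀, hk₀⟩ := mem_line.1 hz.1
  have hk₀S : k₀ ∈ S := by show k₀ • a ∈ Z; rw [hk₀]; exact hz
  have hSne : S ≠ ⊥ ∧ S ≠ ⊤ := by
    refine ⟨fun e => hz0 ?_, fun e => ?_⟩
    · rw [← hk₀, ((Submodule.mem_bot F).1 (e ▸ hk₀S) : k₀ = 0), zero_smul]
    · have hAZ : A ≤ Z := fun v hv => by
        obtain ⟨s, rfl⟩ := mem_line.1 hv
        exact (e ▸ Submodule.mem_top : s ∈ S)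
      have := Submodule.finrank_mono hAZ
      rw [hA, finrank_line ha] at this
      omega
  have hbig : ∀ {y₀ : V}, y₀ ∈ B → ∃ y ∈ B, y ∉ Z ⊔ F ∙ y₀ := by
    intro y₀ _
    by_contra hcon
    push Not at hcon
    have h1 := Submodule.finrank_mono (show B ≤ Z ⊔ F ∙ y₀ from hcon)
    have h2 := Submodule.finrank_add_le_finrank_add_finrank Z (F ∙ y₀)
    have h3 : Module.finrank F (F ∙ y₀) ≤ 1 := by simpa using finrank_span_le_card (R := F) ({y₀} : Set V)
    omega
  -- an element fixing the intersection and one more vector of the image modulo the intersection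
  obtain ⟨x, hx, hxZ, y₀, hy₀, hy₀Z, hxy₀, y, hy, hxy⟩ : ∃ x ∈ M, (∀ v ∈ Z, (x : Module.End F V) v = v) ∧
      ∃ y₀ ∈ B, y₀ ∉ Z ∧ (x : Module.End F V) y₀ - y₀ ∈ Z ∧ ∃ y ∈ B, (x : Module.End F V) y ∉ B := by
    by_cases hperp : ∃ y ∈ B, y ∉ Z ∧ β y a = 0
    swap
    · -- root elements of the line
      push Not at hperp
      obtain ⟨y₀, hy₀, hy₀Z⟩ : ∃ y ∈ B, y ∉ Z := by
        by_contra hcon
        push Not at hcon
        have := Submodule.finrank_mono (show B ≤ Z from hcon)
        omega
      have hn := hperp y₀ hy₀ hy₀Z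
      by_cases hc : ∀ s ∈ S, ∀ y ∈ B, (s * (β y a / β y₀ a)) • a ∈ Z
      swap
      · push Not at hc
        obtain ⟨s, hs, y, hy, hne'⟩ := hc
        obtain ⟨x, hx, e⟩ := hS.root (s / β y₀ a) a
        refine ⟨x, hx, fun v hv => ?_, y₀, hy₀, hy₀Z, ?_, y, hy, fun h => hne' ⟨smul_mem_line a _, ?_⟩⟩
        · obtain ⟨t, rfl⟩ := mem_line.1 hv.1
          simp [e, hS.self]
        · simpa [e, rt_apply, div_mul_cancel₀ _ hn] using (show s • a ∈ Z from hs)
        · have := B.sub_mem h hy
          simpa [e, rt_apply, div_mul_eq_mul_div, mul_div_assoc] using this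
      exfalso
      obtain ⟨y', hy', hy'Z⟩ := hbig hy₀
      obtain ⟨f, hf⟩ := mem_range_of_stable F hS.prime hSne.1 hSne.2
        (c := β y' a / β y₀ a) fun s hs => by rw [mul_comm]; exact hc s hs y' hy'
      refine hperp (y' - f • y₀) (B.sub_mem hy' (B.smul_mem f hy₀)) (fun h => hy'Z ?_) ?_
      · rw [show y' = (y' - f • y₀) + f • y₀ by rw [sub_add_cancel]]
        exact Submodule.add_mem_sup h (Submodule.smul_mem _ f (Submodule.mem_span_singleton_self y₀))
      · rw [map_sub, LinearMap.map_smul_of_tower, LinearMap.sub_apply, LinearMap.smul_apply, Algebra.smul_def, hf,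
          div_mul_cancel₀ _ hn, sub_self]
    · -- Siegel elements
      obtain ⟨y₀, hy₀, hy₀Z, hy₀a⟩ := hperp
      have hy₀A : y₀ ∉ L ∙ a := fun h => hy₀Z ⟨h, hy₀⟩
      by_contra hcon
      have hall : ∀ (s : L) (b : V), s ∈ S → β a b = 0 → β y₀ b = s → ∀ y ∈ B, β y a • b + β y b • a ∈ B := by
        intro s b hs hab hyb y hy
        by_contra hbad
        obtain ⟨x, hx, e⟩ := hS.mem_sieg hab
        refine hcon ⟨x, hx, fun v hv => ?_, y₀, hy₀, hy₀Z, ?_, y, hy, fun h => hbad ?_⟩
        · obtain ⟨t, rfl⟩ := mem_line.1 hv.1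
          simp [e, hS.self, hab]
        · simpa [e, hy₀a, hyb] using (show s • a ∈ Z from hs)
        · have := B.sub_mem h hy
          simpa [e] using this
      have h0 : ∀ b, β a b = 0 → β y₀ b = 0 → ∀ y ∈ B, β y a • b + β y b • a = 0 := by
        intro b hab hyb y hy
        by_contra hv
        refine hne (line_eq_of_le ha hv (fun v hv' => ?_) hZ0)
        obtain ⟨c, rfl⟩ := mem_line.1 hv'
        have := hall 0 (c • b) S.zero_mem (by simp [hab]) (by simp [hyb]) y hy
        convert this using 1
        simp [smul_add, smul_smul, mul_comm c]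
      have hBa : ∀ y ∈ B, β y a = 0 := by
        intro y hy
        by_contra hya
        obtain ⟨x, hx⟩ : ∃ x, x ∉ Submodule.span L {a, y₀, y} := by
          by_contra hcon'
          push Not at hcon'
          refine hy₀A (Submodule.mem_span_singleton.2 ⟨β y y₀ / β y a, ?_⟩)
          have hu : (β y a) • y₀ - (β y y₀) • a = 0 := hS.nondeg _ fun v => by
            obtain ⟨c₁, c₂, hc⟩ : ∃ c₁ : L, ∃ w, w ∈ Submodule.span L {y₀, y} ∧ v = c₁ • a + w :=
              Submodule.mem_span_insert.1 (hcon' v)
            obtain ⟨c₂', c₃, rfl⟩ := Submodule.mem_span_pair.1 hc.1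
            have e1 : β a y₀ = 0 := hS.zero_symm hy₀a
            rw [hc.2]
            simp [hS.self, e1, hy₀a, hS.skew a y, hS.skew y₀ y]
            ring
          rw [sub_eq_zero] at hu
          rw [div_eq_inv_mul, mul_smul, ← hu, inv_smul_smul₀ hya]
        obtain ⟨μ, hμ, hμx⟩ := exists_form_eq hx 1
        obtain ⟨b, hb⟩ := hS.exists_rep μ
        have hba : β a b = 0 := by rw [hb, hμ _ (Submodule.subset_span (by simp))]
        have h := h0 b hba (by rw [hb, hμ _ (Submodule.subset_span (by simp))]) y hy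
        rw [hb y, hμ _ (Submodule.subset_span (by simp)), zero_smul, add_zero, smul_eq_zero] at h
        rcases h with h | h
        · exact hya h
        · simpa [h, hμx] using hb x
      have hspan : ∀ y ∈ B, y ∈ Submodule.span L {a, y₀} := by
        intro y hy
        by_contra hn
        obtain ⟨μ, hμ, hμy⟩ := exists_form_eq hn 1
        obtain ⟨b, hb⟩ := hS.exists_rep μ
        have h := h0 b (by rw [hb, hμ _ (Submodule.subset_span (by simp))])
          (by rw [hb, hμ _ (Submodule.subset_span (by simp))]) y hy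
        rw [hBa y hy, zero_smul, zero_add, hb, hμy, one_smul] at h
        exact ha h
      obtain ⟨y', hy', hy'Z⟩ := hbig hy₀
      obtain ⟨c, d, hcd⟩ := Submodule.mem_span_pair.1 (hspan y' hy')
      obtain ⟨f, hf⟩ := mem_range_of_stable F hS.prime hSne.1 hSne.2 (c := d) fun s hs => by
        obtain ⟨μ, hμ, hμy⟩ := exists_form_eq hy₀A s
        obtain ⟨b, hb⟩ := hS.exists_rep μ
        have hab : β a b = 0 := by rw [hb, hμ _ (Submodule.mem_span_singleton_self a)]
        have hyb : β y₀ b = s := by rw [hb, hμy]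
        have h := hall s b hs hab hyb y' hy'
        rw [hBa y' hy', zero_smul, zero_add, show β y' b = d * s by rw [← hcd]; simp [hab, hyb]] at h
        exact ⟨smul_mem_line a _, h⟩
      refine hy'Z ?_
      rw [show y' = (y' - f • y₀) + f • y₀ by rw [sub_add_cancel]]
      refine Submodule.add_mem_sup ⟨mem_line.2 ⟨c, ?_⟩, B.sub_mem hy' (B.smul_mem f hy₀)⟩
        (Submodule.smul_mem _ f (Submodule.mem_span_singleton_self y₀))
      rw [← hcd, ← algebraMap_smul L f y₀, hf, add_sub_cancel_right]
  refine ⟨g⁻¹ * x * g, mul_mem (mul_mem (inv_mem hg) hx) hg, ?_, fun e => hxy ?_⟩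
  · set P := Z ⊔ F ∙ (x : Module.End F V) y₀ with hP
    have hxy₀B : (x : Module.End F V) y₀ ∈ B := by
      have := B.add_mem hxy₀.2 hy₀
      rwa [sub_add_cancel] at this
    have hPr : k + 1 ≤ Module.finrank F P := by
      rw [← hk]
      refine Submodule.finrank_lt_finrank_of_lt (lt_of_le_of_ne le_sup_left fun e => hy₀Z ?_)
      have : (x : Module.End F V) y₀ ∈ Z := e ▸ Submodule.mem_sup_right (Submodule.mem_span_singleton_self _)
      simpa using Z.sub_mem this hxy₀
    have hle : P.map ((g⁻¹ : (Module.End F V)ˣ) : Module.End F V) ≤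
        A ⊓ A.map ((g⁻¹ * x * g : (Module.End F V)ˣ) : Module.End F V) := by
      rw [Submodule.map_le_iff_le_comap, hP, sup_le_iff, Submodule.span_singleton_le_iff_mem]
      have hin : ∀ {p v : V}, v ∈ B → (x : Module.End F V) v = p → p ∈ B →
          ((g⁻¹ : (Module.End F V)ˣ) : Module.End F V) p ∈ A ⊓ A.map ((g⁻¹ * x * g : (Module.End F V)ˣ) : Module.End F V) := by
        rintro p v ⟨w, hw, rfl⟩ hp hpB
        obtain ⟨w', hw', rfl⟩ := hpB
        refine ⟨by rwa [inv_apply_apply], w, hw, ?_⟩
        simp [Module.End.mul_apply, hp]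
      exact ⟨fun v hv => hin hv.2 (hxZ v hv) hv.2, hin hy₀ rfl hxy₀B⟩
    refine le_trans ?_ (Submodule.finrank_mono hle)
    rwa [← (Submodule.equivMapOfInjective _ (map_unit_inj g⁻¹) P).finrank_eq]
  · obtain ⟨w, hw, rfl⟩ := hy
    have h1 : ((g⁻¹ * x * g : (Module.End F V)ˣ) : Module.End F V) w ∈ A := e ▸ Submodule.mem_map_of_mem hw
    have h2 := Submodule.mem_map_of_mem (f := (g : Module.End F V)) h1
    simpa only [Units.val_mul, Module.End.mul_apply, apply_inv_apply] using h2

/-- Two lines in the orbit meet in a hyperplane of each. -/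
theorem exists_touching {u : (Module.End F V)ˣ} (hu : u ∈ M)
    (hn : ¬ ∀ s : L, ∃ t : L, ∀ v : V, (u : Module.End F V) (s • v) = t • (u : Module.End F V) v) :
    ∃ g ∈ M, ∃ a : V, a ≠ 0 ∧ (line F L a).map (g : Module.End F V) ≠ line F L a ∧
      Module.finrank F (line F L a ⊓ (line F L a).map (g : Module.End F V) : Submodule F V) + 1 =
        Module.finrank F L := by
  haveI : FiniteDimensional F V := Module.Finite.trans L V
  obtain ⟨g₀, hg₀, a, ha, h1, hne₀⟩ := tilted_of_move hS.two_le_dim (fun ha hb => hS.exists_move ha hb) hu hn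
  suffices ∀ n, ∀ g ∈ M, (line F L a).map (g : Module.End F V) ≠ line F L a →
      ∀ k, Module.finrank F (line F L a ⊓ (line F L a).map (g : Module.End F V) : Submodule F V) = k → 1 ≤ k →
      Module.finrank F L ≤ k + n → ∃ g' ∈ M, (line F L a).map (g' : Module.End F V) ≠ line F L a ∧
        Module.finrank F (line F L a ⊓ (line F L a).map (g' : Module.End F V) : Submodule F V) + 1 =
          Module.finrank F L by
    obtain ⟨g', hg', h⟩ := this _ g₀ hg₀ hne₀ _ rfl h1 (Nat.le_add_left _ _)
    exact ⟨g', hg', a, ha, h⟩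
  intro n
  have hlt : ∀ g : (Module.End F V)ˣ, (line F L a).map (g : Module.End F V) ≠ line F L a →
      Module.finrank F (line F L a ⊓ (line F L a).map (g : Module.End F V) : Submodule F V) < Module.finrank F L := by
    intro g hne
    by_contra hlt
    apply hne
    have hA : line F L a ⊓ (line F L a).map (g : Module.End F V) = line F L a :=
      Submodule.eq_of_le_of_finrank_le inf_le_left (by rw [finrank_line ha]; omega)
    have hB : line F L a ⊓ (line F L a).map (g : Module.End F V) = (line F L a).map (g : Module.End F V) :=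
      Submodule.eq_of_le_of_finrank_le inf_le_right (by rw [finrank_map_line g ha]; omega)
    exact hB.symm.trans hA
  induction n with
  | zero =>
    intro g hg hne k hk h1 hle
    have := hlt g hne
    omega
  | succ n ih =>
    intro g hg hne k hk h1 hle
    have := hlt g hne
    by_cases hk2 : k + 2 ≤ Module.finrank F L
    · obtain ⟨g', hg', hbig, hne'⟩ := hS.exists_bigger hg ha hne hk h1 hk2
      exact ih g' hg' hne' _ rfl (by omega) (by omega)
    · exact ⟨g, hg, hne, by omega⟩

end SExt

end CfsgLib.FieldMax
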