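import Cfsg.Agent.Lib.FieldMax.SympFull
import Cfsg.Agent.Lib.FieldMax.Main
import Cfsg.Agent.Lib.Maximal.SpFull

/-!
Maximality of self-adjoint extension-field normalisers in the symplectic groups.
-/

set_option autoImplicit false
set_option linter.style.haveILetI false

namespace CfsgLib.FieldMax

open scoped Matrix
open Cfsg Cfsg.Geo

universe u

variable {m : ℕ} {F : Type u} [Field F] [Fintype F]

local notation "sf" => Cfsg.sympForm m F
local notation "VV" => (Fin m ⊕ Fin m → F)
local notation "GG" => Matrix.GeneralLinearGroup (Fin m ⊕ Fin m) F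
local notation "MM" => Matrix (Fin m ⊕ Fin m) (Fin m ⊕ Fin m) F

/-- Self-adjoint alternating field subalgebras: the data of the form over the extension field. -/
theorem exists_sext {r : ℕ} {K : Subalgebra F MM} (hm : 0 < m) (hK : IsFieldSubalgebra r K) (hr : r.Prime)
    (hsa : IsSelfAdjointFor sf K) (halt : ∀ k ∈ K, ∀ v : VV, sf (k *ᵥ v) v = 0) :
    ∃ (L : Type u) (_ : Field L) (_ : Algebra F L) (ρ : L →ₐ[F] MM) (_ : Module L VV) (_ : IsScalarTower F L VV)
      (β : LinearMap.BilinForm L VV) (ε : Module.Dual F L),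
      Module.finrank F L = r ∧ ρ.range = K ∧ (∀ (x : L) (v : VV), x • v = ρ x *ᵥ v) ∧
      (∀ u v, sf u v = ε (β u v)) ∧ ε ≠ 0 ∧ β.IsAlt := by
  classical
  haveI : Nonempty (Fin m ⊕ Fin m) := ⟨Sum.inl ⟨0, hm⟩⟩
  obtain ⟨L, iL, aL, ρ, hfin, hρ⟩ := exists_field_model hK
  letI : Module L VV := Module.compHom VV
    ((Matrix.toLinAlgEquiv' (R := F) (n := Fin m ⊕ Fin m)).toAlgHom.toRingHom.comp ρ.toRingHom)
  have hsmul : ∀ (x : L) (v : VV), x • v = ρ x *ᵥ v := fun _ _ => rfl
  haveI : IsScalarTower F L VV := ⟨fun a x v => by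
    rw [hsmul, hsmul, map_smul]
    exact Matrix.smul_mulVec a (ρ x) v⟩
  haveI : FiniteDimensional F L := Module.finite_of_finrank_pos (by rw [hfin]; exact hr.pos)
  have hρmem : ∀ x, ρ x ∈ K := fun x => hρ ▸ ⟨x, rfl⟩
  obtain ⟨ε, hε⟩ : ∃ ε : Module.Dual F L, ε ≠ 0 := exists_ne 0
  have hex : ∀ u v : VV, ∃ x : L, ∀ c : L, ε (c * x) = sf (c • u) v := by
    intro u v
    let φ : Module.Dual F L :=
      { toFun := fun c => sf (c • u) v
        map_add' := fun c d => by rw [add_smul, CfsgLib.Maximal.sf_add_left]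
        map_smul' := fun a c => by rw [smul_assoc, CfsgLib.Maximal.sf_smul_left]; rfl }
    obtain ⟨μ, hμ⟩ := exists_form ε hε φ (L := L) (V := L)
    refine ⟨μ 1, fun c => ?_⟩
    rw [← smul_eq_mul, ← map_smul, smul_eq_mul, mul_one, ← hμ]
    rfl
  choose b hb using hex
  have huniq : ∀ {x y : L}, (∀ c, ε (c * x) = ε (c * y)) → x = y := fun {x y} h => by
    by_contra hne
    refine hε (LinearMap.ext fun z => ?_)
    have := h (z / (x - y))
    rw [← sub_eq_zero, ← map_sub, ← mul_sub, div_mul_cancel₀ _ (sub_ne_zero.2 hne)] at this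
    exact this
  have hadj : ∀ (c : L) u v, sf (c • u) v = sf u (c • v) := fun c u v => hsa _ (hρmem c) u v
  let β : LinearMap.BilinForm L VV := LinearMap.mk₂ L b
    (fun u u' v => huniq fun c => by rw [mul_add, map_add, hb, hb, hb, smul_add, CfsgLib.Maximal.sf_add_left])
    (fun t u v => huniq fun c => by rw [hb, smul_eq_mul, ← mul_assoc, hb, mul_smul])
    (fun u v v' => huniq fun c => by rw [mul_add, map_add, hb, hb, hb, CfsgLib.Maximal.sf_add_right])
    (fun t u v => huniq fun c => by rw [hb, smul_eq_mul, ← mul_assoc, hb, mul_comm c, mul_smul, hadj t])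
  refine ⟨L, iL, aL, ρ, inferInstance, inferInstance, β, ε, hfin, hρ, hsmul, fun u v => ?_, hε, fun u => ?_⟩
  · conv_lhs => rw [← one_smul L u, ← hb u v 1, one_mul]
    rfl
  · refine huniq fun c => ?_
    show ε (c * b u u) = ε (c * 0)
    rw [hb, hsmul, halt _ (hρmem c) u, mul_zero, map_zero]

/-- The normaliser in the symplectic group is maximal. -/
theorem symp_field_maximal {r : ℕ} {K : Subalgebra F MM} (hm : 3 ≤ m) (hK : IsFieldSubalgebra r K) (hr : r.Prime)
    (hsa : IsSelfAdjointFor sf K) (halt : ∀ k ∈ K, ∀ v : VV, sf (k *ᵥ v) v = 0) :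
    IsMaximalIn (Cfsg.spGL m F) (subalgebraNormalizer K ⊓ Cfsg.spGL m F) := by
  classical
  haveI : Nonempty (Fin m ⊕ Fin m) := ⟨Sum.inl ⟨0, by omega⟩⟩
  obtain ⟨L, iL, aL, ρ, iM, iT, β, ε, hfin, hρ, hsmul, hsf, hε, hβ⟩ := exists_sext (by omega) hK hr hsa halt
  haveI : FiniteDimensional F L := Module.finite_of_finrank_pos (by rw [hfin]; exact hr.pos)
  haveI : FiniteDimensional L VV := Module.Finite.of_restrictScalars_finite F L VV
  have hρmem : ∀ x, ρ x ∈ K := fun x => hρ ▸ ⟨x, rfl⟩
  have hρK : ∀ k ∈ K, ∃ x, ρ x = k := fun k hk => by rw [← hρ] at hk; exact hk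
  have hdim : r * Module.finrank L VV = 2 * m := by
    rw [← hfin, Module.finrank_mul_finrank, Module.finrank_fintype_fun_eq_card, Fintype.card_sum, Fintype.card_fin]
    omega
  set T := (Matrix.GeneralLinearGroup.toLin (n := Fin m ⊕ Fin m) (R := F))
  constructor
  · refine lt_of_le_of_ne inf_le_right fun e => ?_
    have hle : Cfsg.spGL m F ≤ subalgebraNormalizer K := inf_eq_right.1 e
    obtain ⟨s, hs⟩ : ∃ s : L, s ∉ Set.range (algebraMap F L) := by
      by_contra hcon
      push Not at hcon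
      have hsur : Function.Surjective (Algebra.linearMap F L) := hcon
      have hd := LinearMap.finrank_range_le (Algebra.linearMap F L)
      rw [LinearMap.range_eq_top.2 hsur, finrank_top, Module.finrank_self, hfin] at hd
      exact absurd hr.two_le (by omega)
    obtain ⟨w, hw⟩ := exists_ne (0 : VV)
    have hk := (hle (CfsgLib.Maximal.stv_mem_spGL 1 w) (ρ s)).1 (hρmem s)
    obtain ⟨t, ht⟩ := hρK _ hk
    have hv : ∀ v : VV, t • (v + sf v w • w) = s • v + sf (s • v) w • w := fun v => by
      have hg : ∀ x : VV, (CfsgLib.Maximal.stv (1 : F) w : MM) *ᵥ x = x + sf x w • w := fun x => by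
        rw [CfsgLib.Maximal.stv_mulVec, one_mul]
      rw [← hg, ← hg, hsmul, hsmul, ht, Matrix.mulVec_mulVec, Matrix.mulVec_mulVec, mul_assoc (_ * ρ s),
        ← Units.val_mul, inv_mul_cancel, Units.val_one, mul_one]
    let f : VV →ₗ[F] F × F :=
      { toFun := fun v => (sf v w, sf (s • v) w)
        map_add' := fun u v => by simp [smul_add, CfsgLib.Maximal.sf_add_left]
        map_smul' := fun a v => by simp [smul_comm s a v, CfsgLib.Maximal.sf_smul_left] }
    obtain ⟨v, hv', hv0⟩ := (LinearMap.ker f).exists_mem_ne_zero_of_ne_bot fun e => by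
      have := LinearMap.finrank_le_finrank_of_injective (LinearMap.ker_eq_bot.1 e)
      rw [Module.finrank_prod, Module.finrank_self, Module.finrank_fintype_fun_eq_card, Fintype.card_sum,
        Fintype.card_fin] at this
      omega
    have h0 : sf v w = 0 ∧ sf (s • v) w = 0 := Prod.ext_iff.1 (LinearMap.mem_ker.1 hv')
    have hts : t = s := by
      have := hv v
      simp only [h0.1, h0.2, zero_smul, add_zero] at this
      exact smul_left_injective L hv0 this
    obtain ⟨y, hy⟩ := CfsgLib.Maximal.sf_exists w hw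
    have h1 := hv (-y)
    have hyw : sf (-y) w = 1 := by
      rw [CfsgLib.Maximal.sf_skew, show -y = (-1 : F) • y by simp, CfsgLib.Maximal.sf_smul_right, hy]; simp
    rw [hyw, one_smul, hts, smul_add, add_right_inj, ← algebraMap_smul L (sf (s • -y) w) w] at h1
    exact hs ⟨_, (smul_left_injective L hw h1).symm⟩
  intro M hM hMS
  by_cases hsub : M ≤ subalgebraNormalizer K
  · exact Or.inl (le_antisymm (le_inf hsub hMS) hM)
  refine Or.inr ?_
  obtain ⟨g, hg, hgn⟩ := SetLike.not_le_iff_exists.1 hsub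
  have hroot : ∀ (k : L) (a : VV), Mem (M.map T.toMonoidHom) (rt β k a) := by
    intro k a
    let X : Module.End F VV := rt β k a
    have hX : X * X = 0 := by ext v; simp [X, Module.End.mul_apply, hβ a]
    let u : GG :=
      ⟨LinearMap.toMatrix' (1 + X), LinearMap.toMatrix' (1 - X),
        by rw [← LinearMap.toMatrix'_mul, show (1 + X) * (1 - X) = 1 by rw [mul_sub, mul_one, add_mul, one_mul, hX, add_zero, add_sub_cancel_right], LinearMap.toMatrix'_one],
        by rw [← LinearMap.toMatrix'_mul, show (1 - X) * (1 + X) = 1 by rw [mul_add, mul_one, sub_mul, one_mul, hX, sub_zero, sub_add_cancel], LinearMap.toMatrix'_one]⟩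
    have hu : ∀ v, (u : MM) *ᵥ v = v + (k * β v a) • a := fun v => LinearMap.toMatrix'_mulVec (1 + X) v
    refine ⟨T u, Subgroup.mem_map_of_mem _ (hM ⟨mem_normalizer_of_commute fun c hc => ?_, ?_⟩), LinearMap.ext hu⟩
    · obtain ⟨x, rfl⟩ := hρK c hc
      refine Matrix.ext_of_mulVec_single fun i => ?_
      rw [← Matrix.mulVec_mulVec, ← Matrix.mulVec_mulVec, hu, hu, ← hsmul, ← hsmul, map_smul, LinearMap.smul_apply,
        smul_eq_mul, smul_add, smul_smul]
      congr 2
      ring
    · refine (CfsgLib.Maximal.mem_spGL_iff _).2 ?_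
      intro v v'
      rw [hu, hu, hsf, hsf]
      simp only [map_add, LinearMap.add_apply, map_smul, LinearMap.smul_apply, smul_eq_mul, hβ a]
      rw [← (hβ.neg_eq v' a)]
      simp only [mul_add, mul_zero, add_zero, mul_neg, map_add, map_neg]
      ring_nf
  have hS : SExt β ε (M.map T.toMonoidHom) := by
    refine ⟨hβ, fun u h => ?_, ?_, hε, hroot, hfin ▸ hr, ?_⟩
    · by_contra hu
      obtain ⟨y, hy⟩ := CfsgLib.Maximal.sf_exists u hu
      rw [hsf, h, map_zero] at hy
      exact zero_ne_one hy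
    · rintro _ ⟨h, hh, rfl⟩ u v
      rw [← hsf, ← hsf]
      exact hMS hh u v
    · rcases Nat.eq_zero_or_pos (Module.finrank L VV) with h | h
      · rw [h, mul_zero] at hdim; omega
      · exact h
  have hgn' : ¬ ∀ s : L, ∃ t : L, ∀ v, (T g : Module.End F VV) (s • v) = t • (T g : Module.End F VV) v := by
    intro h
    refine hgn ?_
    have hfwd : ∀ k ∈ K, (g : MM) * k * ((g⁻¹ : GG) : MM) ∈ K := by
      intro k hk
      obtain ⟨x, rfl⟩ := hρK k hk
      obtain ⟨t, ht⟩ := h x
      have e : (g : MM) * ρ x = ρ t * g := Matrix.ext_of_mulVec_single fun i => by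
        rw [← Matrix.mulVec_mulVec, ← Matrix.mulVec_mulVec, ← hsmul, ← hsmul]
        exact ht _
      rw [e, mul_assoc, ← Units.val_mul, mul_inv_cancel, Units.val_one, mul_one]
      exact hρmem t
    exact mem_normalizer_of_le hfwd
  obtain ⟨u, hu, a, ha, hne, hk⟩ := hS.exists_touching (u := T g) (Subgroup.mem_map_of_mem _ hg) hgn'
  obtain ⟨e, he, hfull⟩ := hS.full_of_touching hu ha hne hk (by
    by_contra hcon
    push Not at hcon
    rw [hfin] at hcon
    have := hr.two_le
    nlinarith)
  have he' : CfsgLib.Maximal.SpFull M e := fun k =>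
    mem_of_hom (hfull k) _ fun v => by
      rw [CfsgLib.Maximal.stv_mulVec, hsf]
      simp [smul_smul]
  refine CfsgLib.Maximal.spGL_eq_of_full hMS fun v => ?_
  by_cases hv : v = 0
  · subst hv; exact CfsgLib.Maximal.SpFull.zero M
  obtain ⟨x, hx, hxv, -⟩ := hS.exists_move he hv
  obtain ⟨x', hx', rfl⟩ := hx
  have := he'.map hMS hx'
  rwa [show (x' : MM) *ᵥ e = v from hxv] at this

end CfsgLib.FieldMax
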