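import Cfsg.Agent.Lib.FieldMax.Prep

/-!
Groups of `F`-linear automorphisms of an `L`-space that contain the `L`-linear maps of norm-determinant one:
one transvection gives them all.
-/

set_option autoImplicit false

namespace CfsgLib.FieldMax

variable {F L V : Type*} [Field F] [Field L] [Algebra F L] [AddCommGroup V] [Module F V] [Module L V]
  [IsScalarTower F L V]

/-- `1 + D` is in the group. -/
def Mem (M : Subgroup (Module.End F V)ˣ) (D : Module.End F V) : Prop := ∃ u ∈ M, (u : Module.End F V) = 1 + D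

/-- An `L`-linear map of rank one, over `F`. -/
abbrev lin1 (μ : Module.Dual L V) (c : V) : Module.End F V := (μ.smulRight c).restrictScalars F

/-- The group contains the special part of the normaliser of the extension field. -/
structure Ext (L : Type*) {F V : Type*} [Field F] [Field L] [Algebra F L] [AddCommGroup V] [Module F V] [Module L V]
    [IsScalarTower F L V] (M : Subgroup (Module.End F V)ˣ) : Prop where
  tv : ∀ (μ : Module.Dual L V) (c : V), μ c = 0 → Mem M (lin1 μ c)
  tor : ∀ (μ : Module.Dual L V) (b : V) (t : L), μ b = 1 → Algebra.norm F t = 1 → Mem M (lin1 μ ((t - 1) • b))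
  prime : (Module.finrank F L).Prime
  dim : 2 ≤ Module.finrank L V

variable {M : Subgroup (Module.End F V)ˣ}

theorem Mem.zero : Mem M 0 := ⟨1, one_mem M, by simp⟩

theorem Mem.add {D D' : Module.End F V} (h : Mem M D) (h' : Mem M D') (h0 : D * D' = 0) : Mem M (D + D') := by
  obtain ⟨u, hu, e⟩ := h
  obtain ⟨u', hu', e'⟩ := h'
  refine ⟨u * u', mul_mem hu hu', ?_⟩
  simp only [Units.val_mul, e, e', add_mul, mul_add, mul_one, one_mul, h0, add_zero]
  abel

theorem Mem.neg {D : Module.End F V} (h : Mem M D) (h0 : D * D = 0) : Mem M (-D) := by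
  obtain ⟨u, hu, e⟩ := h
  refine ⟨u⁻¹, inv_mem hu, ?_⟩
  have h1 : (1 + -D) * (u : Module.End F V) = 1 := by
    simp only [e, mul_add, add_mul, neg_mul, one_mul, mul_one, h0, neg_zero, add_zero]; abel
  calc ((u⁻¹ : (Module.End F V)ˣ) : Module.End F V) = (1 + -D) * u * (u⁻¹ : (Module.End F V)ˣ) := by rw [h1, one_mul]
    _ = 1 + -D := by rw [mul_assoc, Units.mul_inv, mul_one]

theorem Mem.conj {D : Module.End F V} (h : Mem M D) {u : (Module.End F V)ˣ} (hu : u ∈ M) :
    Mem M ((u : Module.End F V) * D * (u⁻¹ : (Module.End F V)ˣ)) := by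
  obtain ⟨w, hw, e⟩ := h
  refine ⟨u * w * u⁻¹, mul_mem (mul_mem hu hw) (inv_mem hu), ?_⟩
  rw [Units.val_mul, Units.val_mul, e, mul_add, mul_one, add_mul, Units.mul_inv]

theorem Mem.commutator {A B : Module.End F V} (hA : Mem M A) (hB : Mem M B) (hA2 : A * A = 0) (hB2 : B * B = 0)
    (hABA : A * B * A = 0) (hBAB : B * A * B = 0) : Mem M (A * B - B * A) := by
  obtain ⟨x, hx, ex⟩ := hA
  obtain ⟨y, hy, ey⟩ := hB
  obtain ⟨x', hx', ex'⟩ := (Mem.neg ⟨x, hx, ex⟩ hA2 : Mem M (-A))
  obtain ⟨y', hy', ey'⟩ := (Mem.neg ⟨y, hy, ey⟩ hB2 : Mem M (-B))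
  have hABB : A * B * B = 0 := by rw [mul_assoc, hB2, mul_zero]
  refine ⟨x * y * x' * y', mul_mem (mul_mem (mul_mem hx hy) hx') hy', ?_⟩
  simp only [Units.val_mul, ex, ey, ex', ey', add_mul, mul_add, one_mul, mul_one, mul_neg, neg_mul, ← mul_assoc, hA2,
    hB2, hABA, hBAB, hABB, zero_mul, add_zero, neg_zero, neg_neg]
  abel

theorem smulRight_sq {φ : Module.Dual F V} {a : V} (h : φ a = 0) (ψ : Module.Dual F V) :
    (φ.smulRight a : Module.End F V) * ψ.smulRight a = 0 := by
  ext v; simp [Module.End.mul_apply, h]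

namespace Ext

variable [Fintype F] [FiniteDimensional F L] [FiniteDimensional L V] (hM : Ext L M)

include hM

theorem two_le : 2 ≤ Module.finrank F L := hM.prime.two_le

omit [Fintype F] [FiniteDimensional F L] in
theorem exists_not_mem_line (a : V) : ∃ b, b ∉ L ∙ a := by
  by_contra hcon
  push Not at hcon
  have h := finrank_span_le_card (R := L) ({a} : Set V)
  rw [show L ∙ a = ⊤ from eq_top_iff.2 fun v _ => hcon v, finrank_top] at h
  simp at h
  exact absurd hM.dim (by omega)

omit [Fintype F] [FiniteDimensional F L] in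
/-- The group is transitive on non-zero vectors, by maps commuting with the scalars. -/
theorem exists_move {a b : V} (ha : a ≠ 0) (hb : b ≠ 0) : ∃ u ∈ M, (u : Module.End F V) a = b ∧
    ∀ (s : L) (v : V), (u : Module.End F V) (s • v) = s • (u : Module.End F V) v := by
  have key : ∀ {a b : V}, a ≠ 0 → b ∉ L ∙ a → ∃ u ∈ M, (u : Module.End F V) a = b ∧
      ∀ (s : L) (v : V), (u : Module.End F V) (s • v) = s • (u : Module.End F V) v := by
    intro a b ha hb
    have h : a ∉ L ∙ (b - a) := by
      intro h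
      obtain ⟨s, hs⟩ := Submodule.mem_span_singleton.1 h
      have hs0 : s ≠ 0 := fun e => ha (by rw [← hs, e, zero_smul])
      refine hb (Submodule.mem_span_singleton.2 ⟨(1 + s) / s, ?_⟩)
      calc ((1 + s) / s) • a = s⁻¹ • (a + s • a) := by rw [div_eq_inv_mul, mul_smul, add_smul, one_smul]
        _ = b := by
          rw [smul_add]
          conv_lhs => arg 1; rw [← hs]
          rw [inv_smul_smul₀ hs0, inv_smul_smul₀ hs0, sub_add_cancel]
    obtain ⟨μ, hμ, hμa⟩ := exists_form_eq h 1
    obtain ⟨u, hu, e⟩ := hM.tv μ (b - a) (hμ _ (Submodule.mem_span_singleton_self _))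
    exact ⟨u, hu, by simp [e, hμa], fun s v => by simp [e, smul_add, mul_smul]⟩
  by_cases h : b ∈ L ∙ a
  · obtain ⟨c, hc⟩ := hM.exists_not_mem_line a
    have hc0 : c ≠ 0 := fun e => hc (e ▸ zero_mem _)
    have hbc : b ∉ L ∙ c := fun hm => by
      obtain ⟨s, hs⟩ := Submodule.mem_span_singleton.1 hm
      have hs0 : s ≠ 0 := fun e => hb (by rw [← hs, e, zero_smul])
      exact hc (by rw [← inv_smul_smul₀ hs0 c, hs]; exact Submodule.smul_mem _ _ h)
    obtain ⟨u, hu, hua, hul⟩ := key ha hc
    obtain ⟨w, hw, hwc, hwl⟩ := key hc0 hbc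
    exact ⟨w * u, mul_mem hw hu, by rw [Units.val_mul, Module.End.mul_apply, hua, hwc],
      fun s v => by simp [Module.End.mul_apply, hul, hwl]⟩
  · exact key ha h

/-- With one transvection the group has all of them. -/
theorem all_transvections {φ : Module.Dual F V} {a : V} (hφa : φ a = 0) (hφ : φ ≠ 0) (ha : a ≠ 0)
    (h : Mem M (φ.smulRight a)) : ∀ (ψ : Module.Dual F V) (b : V), ψ b = 0 → Mem M (ψ.smulRight b) := by
  obtain ⟨b₀, hb₀⟩ := hM.exists_not_mem_line a
  obtain ⟨ε, hε⟩ : ∃ ε : Module.Dual F L, ε ≠ 0 := exists_ne 0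
  -- one vanishing on the line
  obtain ⟨φ', hφ', hφ'0, h'⟩ : ∃ φ' : Module.Dual F V, (∀ s : L, φ' (s • a) = 0) ∧ φ' ≠ 0 ∧
      Mem M (φ'.smulRight a) := by
    by_cases h0 : ∀ s : L, φ (s • a) = 0
    · exact ⟨φ, h0, hφ, h⟩
    push Not at h0
    obtain ⟨s, hs⟩ := h0
    obtain ⟨μ, hμ, hμb⟩ := exists_form_eq hb₀ 1
    have hμa : μ a = 0 := hμ a (Submodule.mem_span_singleton_self a)
    obtain ⟨u, hu, e⟩ := hM.tv μ a hμa
    refine ⟨-(φ ∘ₗ lin1 μ a), fun t => by simp [hμa], fun e0 => hs ?_, ?_⟩
    · have := LinearMap.congr_fun e0 (s • b₀)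
      simpa [hμb] using this
    have hX : (lin1 μ a : Module.End F V) * lin1 μ a = 0 := by ext v; simp [Module.End.mul_apply, hμa]
    have hinv : ((u⁻¹ : (Module.End F V)ˣ) : Module.End F V) = 1 - lin1 μ a := by
      calc ((u⁻¹ : (Module.End F V)ˣ) : Module.End F V)
          = (1 - lin1 μ a) * (u : Module.End F V) * ((u⁻¹ : (Module.End F V)ˣ) : Module.End F V) := by
            rw [e, mul_add, mul_one, sub_mul, one_mul, hX, sub_zero, sub_add_cancel, one_mul]
        _ = 1 - lin1 μ a := by rw [mul_assoc, Units.mul_inv, mul_one]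
    have hc := (h.conj hu).add (h.neg (smulRight_sq hφa φ)) (by
      ext v; simp [Module.End.mul_apply, e, hinv, hφa, hμa])
    convert hc using 1
    ext v
    simp [Module.End.mul_apply, e, hinv, hμa]
    module
  -- all vanishing on the line
  have hA : ∀ ψ : Module.Dual F V, (∀ s : L, ψ (s • a) = 0) → Mem M (ψ.smulRight a) := by
    intro ψ hψ
    obtain ⟨μ, hμ⟩ := exists_form ε hε ψ
    have hμa : μ a = 0 := by
      by_contra hne
      refine hε (LinearMap.ext fun x => ?_)
      have := hψ (x / μ a)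
      rwa [hμ, map_smul, smul_eq_mul, div_mul_cancel₀ _ hne] at this
    by_cases hμ0 : μ = 0
    · have : ψ = 0 := LinearMap.ext fun v => by simp [hμ, hμ0]
      rw [this, show ((0 : Module.Dual F V).smulRight a : Module.End F V) = 0 by ext v; simp]
      exact Mem.zero
    obtain ⟨b, hb, hφb⟩ : ∃ b, μ b = 1 ∧ ∃ s : L, φ' (s • b) ≠ 0 := by
      obtain ⟨v, hv⟩ := DFunLike.ne_iff.1 hμ0
      by_contra hcon
      push Not at hcon
      refine hφ'0 (LinearMap.ext fun w => ?_)
      have e1 : μ ((μ v)⁻¹ • v) = 1 := by simp [inv_mul_cancel₀ hv]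
      have h1 := hcon _ e1 (1 - μ w)
      have h2 := hcon _ (show μ (w + (1 - μ w) • (μ v)⁻¹ • v) = 1 by simp [inv_mul_cancel₀ hv]) 1
      rw [one_smul, map_add, h1, add_zero] at h2
      simpa using h2
    obtain ⟨s, hs⟩ := hφb
    let g : L → Module.Dual F V := fun k => φ' ∘ₗ lin1 μ (k • b)
    let S : AddSubgroup L :=
      { carrier := {k | Mem M ((g k).smulRight a)}
        zero_mem' := by
          show Mem M _
          convert Mem.zero (M := M) using 1
          ext v; simp [g]
        add_mem' := fun {k k'} hk hk' => by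
          show Mem M _
          convert hk.add hk' (smulRight_sq (by simp [g, hμa]) _) using 1
          ext v; simp [g, add_smul]
        neg_mem' := fun {k} hk => by
          show Mem M _
          convert hk.neg (smulRight_sq (by simp [g, hμa]) _) using 1
          ext v; simp [g] }
    have hgen : ∀ t : L, Algebra.norm F t = 1 → t⁻¹ - 1 ∈ S := by
      intro t ht
      obtain ⟨u, hu, e⟩ := hM.tor μ b t hb ht
      have hua : ((u : Module.End F V)) a = a := by simp [e, hμa]
      have ht0 : t ≠ 0 := fun h0 => by simp [h0] at ht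
      have hinv : ((u⁻¹ : (Module.End F V)ˣ) : Module.End F V) = 1 + lin1 μ ((t⁻¹ - 1) • b) := by
        have : (1 + lin1 μ ((t⁻¹ - 1) • b)) * (u : Module.End F V) = 1 := by
          rw [e]
          ext v
          simp [Module.End.mul_apply, hb, smul_smul]
          have : (t⁻¹ - 1) * t + (t - 1) = 0 := by rw [sub_mul, one_mul, inv_mul_cancel₀ ht0]; ring
          linear_combination (norm := module) this • (μ v • b)
        calc ((u⁻¹ : (Module.End F V)ˣ) : Module.End F V)
            = (1 + lin1 μ ((t⁻¹ - 1) • b)) * (u : Module.End F V) * ((u⁻¹ : (Module.End F V)ˣ) : Module.End F V) := by rw [this, one_mul]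
          _ = _ := by rw [mul_assoc, Units.mul_inv, mul_one]
      show Mem M _
      have hc := (h'.conj hu).add (h'.neg (smulRight_sq (by simpa using hφ' 1) φ')) (by
        ext v
        have := hφ' 1
        rw [one_smul] at this
        simp [Module.End.mul_apply, hua, hinv, hμa, this])
      convert hc using 1
      ext v
      simp [g, Module.End.mul_apply, hinv, hua, hμa]
      module
    have hgen' : ∀ t : L, Algebra.norm F t = 1 → t - 1 ∈ S := by
      intro t ht
      have h1 : Algebra.norm F t⁻¹ = 1 := by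
        have ht0 : t ≠ 0 := fun h0 => by simp [h0] at ht
        have := (map_mul (Algebra.norm F) t t⁻¹).symm
        rwa [mul_inv_cancel₀ ht0, map_one, ht, one_mul] at this
      simpa using hgen _ h1
    have htop : ∀ k, k ∈ S := by
      intro k
      let S' : AddSubgroup L :=
        { carrier := {c | ∀ t : L, Algebra.norm F t = 1 → c * (t - 1) ∈ S}
          zero_mem' := fun t _ => by rw [zero_mul]; exact S.zero_mem
          add_mem' := fun {c c'} hc hc' t ht => by rw [add_mul]; exact S.add_mem (hc t ht) (hc' t ht)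
          neg_mem' := fun {c} hc t ht => by rw [neg_mul]; exact S.neg_mem (hc t ht) }
      have h1 : (1 : L) ∈ S' := fun t ht => by rw [one_mul]; exact hgen' t ht
      have hall : ∀ c, c ∈ S' := stable_eq_top F hM.two_le S' (fun t' ht' c hc t ht => by
        have e1 : t' * c * (t - 1) = c * (t' * t - 1) - c * (t' - 1) := by ring
        rw [e1]
        exact S.sub_mem (hc _ (by rw [map_mul, ht', ht, one_mul])) (hc _ ht')) h1 one_ne_zero
      obtain ⟨t, ht, ht1⟩ : ∃ t : L, Algebra.norm F t = 1 ∧ t ≠ 1 := by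
        by_contra hcon
        push Not at hcon
        have h01 : ∀ c : L, c ∈ Set.range (algebraMap F L) := fun c => by
          refine stable_eq_top F hM.two_le (Algebra.linearMap F L).range.toAddSubgroup (fun t ht s hs => ?_)
            (s₀ := 1) ⟨1, map_one (algebraMap F L)⟩ one_ne_zero c
          rwa [hcon t ht, one_mul]
        have hsur : Function.Surjective (Algebra.linearMap F L) := h01
        have hd := LinearMap.finrank_range_le (Algebra.linearMap F L)
        rw [LinearMap.range_eq_top.2 hsur, finrank_top, Module.finrank_self] at hd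
        exact absurd hM.two_le (by omega)
      have := hall (k / (t - 1)) t ht
      rwa [div_mul_cancel₀ _ (sub_ne_zero.2 ht1)] at this
    -- pick the multiplier
    let δ : Module.Dual F L := φ' ∘ₗ (LinearMap.toSpanSingleton L V b).restrictScalars F
    have hδ : δ ≠ 0 := fun e => hs (by simpa [δ] using LinearMap.congr_fun e s)
    obtain ⟨ν, hν⟩ := exists_form (L := L) (V := L) δ hδ ε
    have hνk : ∀ x, ν x = ν 1 * x := fun x => by
      conv_lhs => rw [← mul_one x, ← smul_eq_mul, map_smul, smul_eq_mul, mul_comm]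
    have hm : Mem M ((g (ν 1)).smulRight a) := htop (ν 1)
    convert hm using 3
    ext v
    rw [hμ, hν]
    simp only [δ, g, LinearMap.comp_apply, LinearMap.coe_restrictScalars, LinearMap.toSpanSingleton_apply,
      LinearMap.smulRight_apply]
    rw [hνk, mul_comm, mul_smul]
  -- all with this centre
  have hall : ∀ b : V, b ≠ 0 → ∀ ψ : Module.Dual F V, (∀ s : L, ψ (s • b) = 0) → Mem M (ψ.smulRight b) := by
    intro b hb ψ hψ
    obtain ⟨u, hu, hua, hul⟩ := hM.exists_move ha hb
    have := (hA (ψ ∘ₗ (u : Module.End F V)) fun s => by simp [hul, hua, hψ]).conj hu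
    convert this using 1
    ext v
    simp [Module.End.mul_apply, hua]
    rw [← Module.End.mul_apply, Units.mul_inv, Module.End.one_apply]
  intro ψ b hψ
  by_cases hb : b = 0
  · subst hb
    convert Mem.zero (M := M) using 1
    ext v; simp
  by_cases hψb : ∀ s : L, ψ (s • b) = 0
  · exact hall b hb ψ hψb
  push Not at hψb
  obtain ⟨s, hs⟩ := hψb
  obtain ⟨μ, hμ⟩ := exists_form ε hε ψ
  have hμb : μ b ≠ 0 := fun e => hs (by simp [hμ, e])
  -- a second centre in the kernel
  obtain ⟨d₀, hd₀⟩ := hM.exists_not_mem_line b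
  set d := d₀ - (μ d₀ / μ b) • b with hd
  have hdb : d ∉ L ∙ b := fun hm => hd₀ (by
    have := add_mem hm (Submodule.smul_mem _ (μ d₀ / μ b) (Submodule.mem_span_singleton_self b))
    rwa [hd, sub_add_cancel] at this)
  have hμd : μ d = 0 := by simp [hd, div_mul_cancel₀ _ hμb]
  obtain ⟨ν, hν, hνd⟩ := exists_form_eq hdb 1
  obtain ⟨e₀, he₀⟩ : ∃ x, ε x = 1 := by
    obtain ⟨x, hx⟩ := DFunLike.ne_iff.1 hε
    exact ⟨(ε x)⁻¹ • x, by simp [inv_mul_cancel₀ hx]⟩
  let φ₁ : Module.Dual F V := ε ∘ₗ (e₀ • ν).restrictScalars F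
  have h1 : ∀ s : L, φ₁ (s • b) = 0 := fun s => by simp [φ₁, hν _ (Submodule.mem_span_singleton_self b)]
  have h2 : ∀ s : L, ψ (s • d) = 0 := fun s => by simp [hμ, hμd]
  have hb1 : φ₁ b = 0 := by simpa using h1 1
  have hd2 : ψ d = 0 := by simpa using h2 1
  have hd1 : φ₁ d = 1 := by simp [φ₁, hνd, he₀]
  have hd0 : d ≠ 0 := fun e => hdb (e ▸ zero_mem _)
  convert (hall b hb φ₁ h1).commutator (hall d hd0 ψ h2) (smulRight_sq hb1 _) (smulRight_sq hd2 _)
    (by ext v; simp [Module.End.mul_apply, hψ]) (by ext v; simp [Module.End.mul_apply, hψ]) using 1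
  ext v
  simp [Module.End.mul_apply, hψ, hd1]

end Ext

end CfsgLib.FieldMax
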